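import Groth.Agent.CurveBridge.BarField
import Groth.Agent.FunFld1.Rational
import Mathlib.AlgebraicGeometry.EllipticCurve.Affine.Point
import Mathlib.RingTheory.Nullstellensatz

/-!
Weierstrass curves whose generic point generates a function field of genus one: nonsingularity and
embeddings of the function field.
-/

set_option linter.style.haveILetI false
set_option linter.unusedSectionVars false

universe u v

open Polynomial WeierstrassCurve.Affine
open scoped Groth.CurveBridge

namespace Groth.EllGroup

/-- A Weierstrass curve all of whose points in extension fields are nonsingular. -/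
def AllNonsingular {k : Type u} [Field k] (W : WeierstrassCurve k) : Prop :=
  ∀ (L : Type u) [Field L] [Algebra k L] (x y : L),
    (W.map (algebraMap k L)).toAffine.Equation x y → (W.map (algebraMap k L)).toAffine.Nonsingular x y

variable {k : Type u} [Field k]

/-- A singular point forces the function field to be rational. -/
theorem adjoin_slope_eq_top {K : Type v} [Field K] [Algebra k K] (W : WeierstrassCurve k) {x y : K}
    (heq : (W.map (algebraMap k K)).toAffine.Equation x y) (hx : Transcendental k x)
    (htop : IntermediateField.adjoin k ({x, y} : Set K) = ⊤) {a b : k}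
    (he : W.toAffine.Equation a b) (hs : ¬ W.toAffine.Nonsingular a b) :
    IntermediateField.adjoin k ({(y - algebraMap k K b) / (x - algebraMap k K a)} : Set K) = ⊤ := by
  set A := algebraMap k K
  have hx0 : x - A a ≠ 0 := fun h => hx (by rw [sub_eq_zero.mp h]; exact isAlgebraic_algebraMap a)
  set t := (y - A b) / (x - A a) with ht
  rw [nonsingular_iff', not_and, not_or, not_not, not_not] at hs
  obtain ⟨hX, hY⟩ := hs he
  rw [equation_iff'] at he
  have hX' := congrArg A hX
  have hY' := congrArg A hY
  have he' := congrArg A he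
  simp only [map_add, map_sub, map_mul, map_pow, map_ofNat, map_zero] at hX' hY' he'
  rw [equation_iff'] at heq
  simp only [WeierstrassCurve.map_a₁, WeierstrassCurve.map_a₂, WeierstrassCurve.map_a₃,
    WeierstrassCurve.map_a₄, WeierstrassCurve.map_a₆] at heq
  have hy : y - A b = t * (x - A a) := (div_mul_cancel₀ _ hx0).symm
  have hprod : (x - A a) ^ 2 * (t ^ 2 + A W.a₁ * t - (x - A a) - (A W.a₂ + 3 * A a)) = 0 := by
    have e1 : t ^ 2 * (x - A a) ^ 2 = (y - A b) ^ 2 := by rw [hy]; ring
    have e2 : t * (x - A a) ^ 2 = (y - A b) * (x - A a) := by rw [hy]; ring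
    linear_combination heq - he' - (x - A a) * hX' - (y - A b) * hY' + e1 + A W.a₁ * e2
  have hxt : x = t ^ 2 + A W.a₁ * t - (A W.a₂ + 2 * A a) := by
    have := (mul_eq_zero.mp hprod).resolve_left (pow_ne_zero _ hx0)
    linear_combination -this
  set T := IntermediateField.adjoin k ({t} : Set K)
  have htT : t ∈ T := IntermediateField.mem_adjoin_simple_self k t
  have hxT : x ∈ T := by
    rw [hxt]
    exact sub_mem (add_mem (pow_mem htT 2) (mul_mem (T.algebraMap_mem _) htT))
      (add_mem (T.algebraMap_mem _) (mul_mem (ofNat_mem T 2) (T.algebraMap_mem _)))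
  have hyT : y ∈ T := by
    rw [show y = t * (x - A a) + A b by rw [← hy]; ring]
    exact add_mem (mul_mem htT (sub_mem hxT (T.algebraMap_mem _))) (T.algebraMap_mem _)
  rw [eq_top_iff, ← htop, IntermediateField.adjoin_le_iff]
  rintro z (rfl | rfl) <;> assumption

/-- Nonsingular geometric points give nonsingular points in all extensions. -/
theorem allNonsingular_of_algClosure (W : WeierstrassCurve k)
    (h : ∀ a b : AlgebraicClosure k, (W.map (algebraMap k (AlgebraicClosure k))).toAffine.Equation a b →
      (W.map (algebraMap k (AlgebraicClosure k))).toAffine.Nonsingular a b) : AllNonsingular W := by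
  let X : MvPolynomial (Fin 2) k := MvPolynomial.X 0
  let Y : MvPolynomial (Fin 2) k := MvPolynomial.X 1
  let C' : k → MvPolynomial (Fin 2) k := MvPolynomial.C
  let F := Y ^ 2 + C' W.a₁ * X * Y + C' W.a₃ * Y - (X ^ 3 + C' W.a₂ * X ^ 2 + C' W.a₄ * X + C' W.a₆)
  let FX := C' W.a₁ * Y - (3 * X ^ 2 + 2 * C' W.a₂ * X + C' W.a₄)
  let FY := 2 * Y + C' W.a₁ * X + C' W.a₃
  let I := Ideal.span ({F, FX, FY} : Set (MvPolynomial (Fin 2) k))
  have key : ∀ {L : Type u} [Field L] [Algebra k L] (p : Fin 2 → L),
      (∀ q ∈ I, MvPolynomial.aeval p q = 0) ↔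
        (W.map (algebraMap k L)).toAffine.Equation (p 0) (p 1) ∧
          ¬ (W.map (algebraMap k L)).toAffine.Nonsingular (p 0) (p 1) := by
    intro L _ _ p
    have e : (∀ q ∈ I, MvPolynomial.aeval p q = 0) ↔
        MvPolynomial.aeval p F = 0 ∧ MvPolynomial.aeval p FX = 0 ∧ MvPolynomial.aeval p FY = 0 := by
      rw [show (∀ q ∈ I, MvPolynomial.aeval p q = 0) ↔ I ≤ RingHom.ker (MvPolynomial.aeval p) from Iff.rfl,
        Ideal.span_le]
      simp [Set.insert_subset_iff]
    rw [e, nonsingular_iff', equation_iff']
    simp only [F, FX, FY, X, Y, C', map_add, map_sub, map_mul, map_pow, map_ofNat, MvPolynomial.aeval_X,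
      MvPolynomial.aeval_C, WeierstrassCurve.map_a₁, WeierstrassCurve.map_a₂, WeierstrassCurve.map_a₃,
      WeierstrassCurve.map_a₄, WeierstrassCurve.map_a₆]
    tauto
  have h1 : I = ⊤ := by
    rw [← Ideal.radical_eq_top, ← MvPolynomial.vanishingIdeal_zeroLocus_eq_radical (K := AlgebraicClosure k)]
    have hempty : MvPolynomial.zeroLocus (AlgebraicClosure k) I = ∅ :=
      Set.eq_empty_iff_forall_notMem.mpr fun p hp => ((key p).mp hp).2 (h _ _ ((key p).mp hp).1)
    rw [hempty]
    exact MvPolynomial.vanishingIdeal_empty
  intro L _ _ x y he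
  by_contra hs
  have := ((key ![x, y]).mpr ⟨he, hs⟩) 1 (h1 ▸ trivial)
  simp at this

section Embedding

variable (W : WeierstrassCurve k) {L : Type u} [Field L] [Algebra k L] {x y : L}
  (heq : (W.map (algebraMap k L)).toAffine.Equation x y)
include heq

/-- Evaluation of the coordinate ring at a point. -/
noncomputable def evalAt : W.toAffine.CoordinateRing →+* L :=
  AdjoinRoot.lift (aeval (R := k) x).toRingHom y (by
    rw [equation_iff'] at heq
    simp only [WeierstrassCurve.map_a₁, WeierstrassCurve.map_a₂, WeierstrassCurve.map_a₃,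
      WeierstrassCurve.map_a₄, WeierstrassCurve.map_a₆] at heq
    simp [WeierstrassCurve.Affine.polynomial, Polynomial.eval₂_pow]
    linear_combination heq)

theorem evalAt_C (p : k[X]) :
    evalAt W heq (algebraMap k[X] W.toAffine.CoordinateRing p) = aeval x p :=
  AdjoinRoot.lift_of ..

theorem evalAt_root : evalAt W heq (AdjoinRoot.root _) = y :=
  AdjoinRoot.lift_root ..

theorem evalAt_injective (hx : Transcendental k x) : Function.Injective (evalAt W heq) := by
  rw [RingHom.injective_iff_ker_eq_bot]
  haveI : Algebra.IsIntegral k[X] W.toAffine.CoordinateRing := by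
    haveI := Module.Finite.of_basis (WeierstrassCurve.Affine.CoordinateRing.basis W.toAffine)
    exact Algebra.IsIntegral.of_finite _ _
  refine Ideal.eq_bot_of_comap_eq_bot (R := k[X]) ?_
  refine eq_bot_iff.mpr fun p hp => ?_
  rw [Ideal.mem_comap, RingHom.mem_ker, evalAt_C] at hp
  exact transcendental_iff_injective.mp hx (hp.trans (map_zero _).symm)

end Embedding

/-- A function field generated by a point of the curve embeds by any other transcendental point. -/
theorem exists_algHom_of_point (W : WeierstrassCurve k) {K L : Type u} [Field K] [Algebra k K] [Field L]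
    [Algebra k L] {u v : K} (heqK : (W.map (algebraMap k K)).toAffine.Equation u v) (hu : Transcendental k u)
    (htop : IntermediateField.adjoin k ({u, v} : Set K) = ⊤)
    {x y : L} (heqL : (W.map (algebraMap k L)).toAffine.Equation x y) (hx : Transcendental k x) :
    ∃ φ : K →ₐ[k] L, φ u = x ∧ φ v = y := by
  let S := W.toAffine.CoordinateRing
  let F := FractionRing S
  let eK : F →+* K := IsFractionRing.lift (evalAt_injective W heqK hu)
  let eL : F →+* L := IsFractionRing.lift (evalAt_injective W heqL hx)
  have hK : ∀ s : S, eK (algebraMap S F s) = evalAt W heqK s := IsFractionRing.lift_algebraMap _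
  have hL : ∀ s : S, eL (algebraMap S F s) = evalAt W heqL s := IsFractionRing.lift_algebraMap _
  let cF : k → F := fun c => algebraMap S F (algebraMap k[X] S (C c))
  have hKc : ∀ c, eK (cF c) = algebraMap k K c := fun c => by rw [hK, evalAt_C, aeval_C]
  have hLc : ∀ c, eL (cF c) = algebraMap k L c := fun c => by rw [hL, evalAt_C, aeval_C]
  have hKu : eK (algebraMap S F (algebraMap k[X] S X)) = u := by rw [hK, evalAt_C, aeval_X]
  have hLx : eL (algebraMap S F (algebraMap k[X] S X)) = x := by rw [hL, evalAt_C, aeval_X]
  have hKv : eK (algebraMap S F (AdjoinRoot.root _)) = v := by rw [hK, evalAt_root]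
  have hLy : eL (algebraMap S F (AdjoinRoot.root _)) = y := by rw [hL, evalAt_root]
  have hsurj : Function.Surjective eK := by
    let R : IntermediateField k K := eK.fieldRange.toIntermediateField fun c => ⟨cF c, hKc c⟩
    have hR : R = ⊤ := by
      rw [eq_top_iff, ← htop, IntermediateField.adjoin_le_iff]
      rintro z (rfl | rfl)
      exacts [⟨_, hKu⟩, ⟨_, hKv⟩]
    intro z
    exact (hR ▸ trivial : z ∈ R)
  let e : F ≃+* K := RingEquiv.ofBijective eK ⟨eK.injective, hsurj⟩
  refine ⟨{ eL.comp e.symm.toRingHom with commutes' := fun c => ?_ }, ?_, ?_⟩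
  · show eL (e.symm _) = _
    rw [← hKc, show eK (cF c) = e (cF c) from rfl, RingEquiv.symm_apply_apply]
    exact hLc c
  · show eL (e.symm u) = x
    nth_rw 1 [← hKu]
    rw [show eK _ = e _ from rfl, RingEquiv.symm_apply_apply]
    exact hLx
  · show eL (e.symm v) = y
    nth_rw 1 [← hKv]
    rw [show eK _ = e _ from rfl, RingEquiv.symm_apply_apply]
    exact hLy

/-- Maps out of a field generated by two elements are determined by their values there. -/
theorem algHom_ext_of_adjoin {K L : Type u} [Field K] [Algebra k K] [Field L] [Algebra k L] {u v : K}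
    (htop : IntermediateField.adjoin k ({u, v} : Set K) = ⊤) {φ ψ : K →ₐ[k] L} (h1 : φ u = ψ u)
    (h2 : φ v = ψ v) : φ = ψ :=
  AlgHom.ext fun z => by
    have hz : z ∈ IntermediateField.adjoin k ({u, v} : Set K) := htop ▸ trivial
    induction hz using IntermediateField.adjoin_induction with
    | mem w hw => rcases hw with rfl | rfl <;> assumption
    | algebraMap c => simp
    | add w1 w2 _ _ e1 e2 => simp [e1, e2]
    | inv w _ e1 => simp [e1]
    | mul w1 w2 _ _ e1 e2 => simp [e1, e2]

open CategoryTheory AlgebraicGeometry in
/-- The Weierstrass equation of a smooth genus one curve is nonsingular. -/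
theorem allNonsingular_of_genus_one (k : Type u) [Field k] (X : Scheme.{u})
    [X.Over (Spec (CommRingCat.of k))] [IsIntegral X] [IsProper (X ↘ Spec (CommRingCat.of k))]
    [Smooth (X ↘ Spec (CommRingCat.of k))] (hdim : topologicalKrullDim X = 1)
    (h0 : Module.finrank k (Coh.HH X (Coh.structureModule X) 0) = 1) (hg : Curv2.genus k X = 1)
    (W : WeierstrassCurve k) {u v : X.functionField}
    (heq : (W.map (algebraMap k X.functionField)).toAffine.Equation u v) (hu : Transcendental k u)
    (htop : IntermediateField.adjoin k ({u, v} : Set X.functionField) = ⊤) : AllNonsingular W := by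
  haveI := Groth.CurveBridge.isIntegral_bar k X h0
  refine allNonsingular_of_algClosure W fun a b he => by_contra fun hs => ?_
  have hbR := Groth.CurveBridge.isRegCurve_bar k X hdim
  have hKb := Groth.CurveBridge.isFunctionField (k := AlgebraicClosure k)
    (X := Groth.CurveBridge.Xb k X) hbR.dim
  let i := Groth.CurveBridge.BarField.incl k X
  set K' := (Groth.CurveBridge.Xb k X).functionField
  have hcomp : (algebraMap (AlgebraicClosure k) K').comp (algebraMap k (AlgebraicClosure k)) =
      (i : X.functionField →+* K').comp (algebraMap k X.functionField) :=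
    RingHom.ext fun c => (Groth.CurveBridge.BarField.incl_algebraMap k X c).symm
  have heq' : ((W.map (algebraMap k (AlgebraicClosure k))).map (algebraMap (AlgebraicClosure k) K')).toAffine.Equation
      (i u) (i v) := by
    rw [WeierstrassCurve.map_map, hcomp, ← WeierstrassCurve.map_map]
    exact WeierstrassCurve.Affine.Equation.map (i : X.functionField →+* K') heq
  have htop' : IntermediateField.adjoin (AlgebraicClosure k) ({i u, i v} : Set K') = ⊤ := by
    rw [eq_top_iff, ← Groth.CurveBridge.BarField.adjoin_range_incl k X, IntermediateField.adjoin_le_iff]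
    rintro _ ⟨z, rfl⟩
    set T := IntermediateField.adjoin (AlgebraicClosure k) ({i u, i v} : Set K')
    have hz : z ∈ IntermediateField.adjoin k ({u, v} : Set X.functionField) := htop ▸ trivial
    induction hz using IntermediateField.adjoin_induction with
    | mem w hw =>
      rcases hw with rfl | rfl
      exacts [IntermediateField.subset_adjoin _ _ (Set.mem_insert _ _),
        IntermediateField.subset_adjoin _ _ (Set.mem_insert_of_mem _ rfl)]
    | algebraMap c => rw [Groth.CurveBridge.BarField.incl_algebraMap]; exact T.algebraMap_mem _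
    | add w1 w2 _ _ h1 h2 => rw [map_add]; exact add_mem h1 h2
    | inv w _ h1 => rw [map_inv₀]; exact inv_mem h1
    | mul w1 w2 _ _ h1 h2 => rw [map_mul]; exact mul_mem h1 h2
  have hut : Transcendental (AlgebraicClosure k) (i u) := fun halg => by
    letI : Algebra k K' := ((i : X.functionField →+* K').comp (algebraMap k X.functionField)).toAlgebra
    haveI : IsScalarTower k (AlgebraicClosure k) K' := IsScalarTower.of_algebraMap_eq' hcomp.symm
    let ι : X.functionField →ₐ[k] K' :=
      { (i : X.functionField →+* K') with commutes' := fun _ => rfl }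
    exact hu ((isAlgebraic_algHom_iff ι ι.toRingHom.injective).mp (halg.restrictScalars k))
  have := Groth.FunFld1.genus_eq_zero_of_rational hKb (adjoin_slope_eq_top _ heq' hut htop' he hs)
  rw [← Groth.CurveBridge.genus_eq hbR hKb, Groth.CurveBridge.genus_bc k X, hg] at this
  exact one_ne_zero this

end Groth.EllGroup
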