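import Groth.Agent.EllGroup.Algebra
import Mathlib.AlgebraicGeometry.EllipticCurve.Projective.Point
import Mathlib.RingTheory.Flat.FaithfullyFlat.Algebra

/-!
Projective triples over domains, and Weierstrass addition under ring maps.
-/

set_option linter.style.haveILetI false
set_option linter.unusedSectionVars false

universe u

open scoped WeierstrassCurve.Projective
open WeierstrassCurve.Projective (Point)

namespace Groth.EllGroup

/-- Proportional triples. -/
def Cross {R : Type*} [CommRing R] (P Q : Fin 3 → R) : Prop := ∀ i j, P i * Q j = P j * Q i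

variable {R : Type u} [CommRing R]

theorem Cross.map {S : Type*} [CommRing S] (f : R →+* S) {P Q : Fin 3 → R} (h : Cross P Q) :
    Cross (f ∘ P) (f ∘ Q) := fun i j => by
  simp only [Function.comp_apply, ← map_mul, h i j]

theorem cross_of_map {S : Type*} [CommRing S] {f : R →+* S} (hf : Function.Injective f) {P Q : Fin 3 → R}
    (h : Cross (f ∘ P) (f ∘ Q)) : Cross P Q := fun i j => hf (by rw [map_mul, map_mul]; exact h i j)

theorem cross_of_equiv {P Q : Fin 3 → R} (h : P ≈ Q) : Cross P Q := by
  obtain ⟨c, rfl⟩ := h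
  intro i j
  simp only [Pi.smul_apply, Units.smul_def, smul_eq_mul]
  ring

theorem cross_smul (c : R) (P : Fin 3 → R) : Cross (c • P) P := fun i j => by
  simp only [Pi.smul_apply, smul_eq_mul]; ring

theorem equiv_of_cross {L : Type*} [Field L] {P Q : Fin 3 → L} (h : Cross P Q) (hP : ∃ i, P i ≠ 0)
    (hQ : ∃ i, Q i ≠ 0) : P ≈ Q := by
  obtain ⟨i, hi⟩ := hP
  obtain ⟨j, hj⟩ := hQ
  have hQi : Q i ≠ 0 := fun h0 => by
    have := h i j
    rw [h0, mul_zero] at this
    exact mul_ne_zero hi hj this
  refine ⟨Units.mk0 (P i / Q i) (div_ne_zero hi hQi), funext fun l => ?_⟩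
  simp only [Pi.smul_apply, Units.smul_def, smul_eq_mul, Units.val_mk0]
  field_simp
  linear_combination h i l

theorem exists_ne_zero_of_nonsingular {L : Type*} [Field L] {W : WeierstrassCurve.Projective L} {P : Fin 3 → L}
    (h : W.Nonsingular P) : ∃ i, P i ≠ 0 := by
  by_contra! h0
  exact WeierstrassCurve.Projective.Y_ne_zero_of_Z_eq_zero h (h0 2) (h0 1)

theorem toAffine_eq_of_cross {L : Type*} [Field L] {W : WeierstrassCurve.Projective L} {P Q : Fin 3 → L}
    (hP : ∃ i, P i ≠ 0) (hQ : ∃ i, Q i ≠ 0) (h : Cross P Q) : Point.toAffine W P = Point.toAffine W Q :=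
  Point.toAffine_of_equiv (equiv_of_cross h hP hQ)

theorem not_equiv_of_map {L L' : Type*} [Field L] [Field L'] (f : R →+* L) (g : R →+* L')
    (hf : Function.Injective f) {P Q : Fin 3 → R} (hP : ∃ i, (g ∘ P) i ≠ 0) (hQ : ∃ i, (g ∘ Q) i ≠ 0)
    (h : ¬ (g ∘ P ≈ g ∘ Q)) : ¬ (f ∘ P ≈ f ∘ Q) := fun he =>
  h (equiv_of_cross ((cross_of_map hf (cross_of_equiv he)).map g) hP hQ)

/-- Addition of distinct points. -/
theorem addXYZ_toAffine {L : Type*} [Field L] [DecidableEq L] {W : WeierstrassCurve.Projective L}
    {P Q : Fin 3 → L} (hP : W.Nonsingular P) (hQ : W.Nonsingular Q)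
    (hne : Point.toAffine W P ≠ Point.toAffine W Q) :
    W.Nonsingular (W.addXYZ P Q) ∧
      Point.toAffine W (W.addXYZ P Q) = Point.toAffine W P + Point.toAffine W Q := by
  have h : ¬ P ≈ Q := fun he => hne (Point.toAffine_of_equiv he)
  rw [← WeierstrassCurve.Projective.add_of_not_equiv h]
  exact ⟨WeierstrassCurve.Projective.nonsingular_add hP hQ, Point.toAffine_add hP hQ⟩

/-- A triple proportional to a primitive one over a faithfully flat extension is, after scaling,
primitive. -/
theorem exists_primitive {A B : Type u} [CommRing A] [IsDomain A] [CommRing B] [IsDomain B] [Algebra A B]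
    [Module.FaithfullyFlat A B] {a : Fin 3 → A} (ha : ∃ i, a i ≠ 0) {w : Fin 3 → B} {i : Fin 3}
    (hw : IsUnit (w i)) (h : Cross (algebraMap A B ∘ a) w) :
    ∃ b : Fin 3 → A, b i = 1 ∧ Cross a b := by
  have hinj : Function.Injective (algebraMap A B) := FaithfulSMul.algebraMap_injective A B
  have key : ∀ l, a l ∈ Ideal.span {a i} := fun l => by
    rw [← Ideal.comap_map_eq_self_of_faithfullyFlat (B := B) (Ideal.span {a i}), Ideal.mem_comap,
      Ideal.map_span, Set.image_singleton, Ideal.mem_span_singleton]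
    obtain ⟨e, he⟩ := hw.exists_right_inv
    refine ⟨w l * e, ?_⟩
    have := h i l
    simp only [Function.comp_apply] at this
    linear_combination (-(algebraMap A B (a l))) * he - e * this
  choose b hb using fun l => Ideal.mem_span_singleton'.mp (key l)
  have hai : a i ≠ 0 := fun h0 => by
    obtain ⟨l, hl⟩ := ha
    exact hl (by rw [← hb l, h0, mul_zero])
  refine ⟨fun l => if l = i then 1 else b l, if_pos rfl, fun p q => ?_⟩
  have e : ∀ l, (if l = i then (1 : A) else b l) * a i = a l := fun l => by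
    split_ifs with hl
    · rw [hl, one_mul]
    · exact hb l
  refine mul_right_cancel₀ hai ?_
  rw [mul_assoc, mul_assoc, e, e, mul_comm]

variable {k : Type u} [Field k] (W : WeierstrassCurve k)

theorem addXYZ_comp {A B : Type u} [CommRing A] [CommRing B] [Algebra k A] [Algebra k B] (f : A →ₐ[k] B)
    (P Q : Fin 3 → A) :
    (W⁄B).toProjective.addXYZ (f ∘ P) (f ∘ Q) = f ∘ (W⁄A).toProjective.addXYZ P Q :=
  WeierstrassCurve.Projective.baseChange_addXYZ f P Q

/-- The generic point is not two torsion. -/
theorem negY_ne_self {L : Type u} [Field L] [Algebra k L] (hW : AllNonsingular W) {x y : L}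
    (heq : (W.map (algebraMap k L)).toAffine.Equation x y) (hx : Transcendental k x) :
    (W.map (algebraMap k L)).toAffine.negY x y ≠ y := by
  intro h
  have hlin : evalAt W heq (algebraMap (Polynomial k) W.toAffine.CoordinateRing
        (Polynomial.C W.a₁ * Polynomial.X + Polynomial.C W.a₃) +
      algebraMap (Polynomial k) W.toAffine.CoordinateRing (Polynomial.C 2) * AdjoinRoot.root _) = 0 := by
    rw [map_add, map_mul, evalAt_C, evalAt_C, evalAt_root]
    simp only [map_add, map_mul, Polynomial.aeval_C, Polynomial.aeval_X, map_ofNat]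
    rw [WeierstrassCurve.Affine.negY] at h
    simp only [WeierstrassCurve.map_a₁, WeierstrassCurve.map_a₃] at h
    linear_combination -h
  have h0 := evalAt_injective W heq hx (hlin.trans (map_zero _).symm)
  have h1 : (Polynomial.C W.a₁ * Polynomial.X + Polynomial.C W.a₃) • (1 : W.toAffine.CoordinateRing) +
      (Polynomial.C 2 : Polynomial k) • WeierstrassCurve.Affine.CoordinateRing.mk W.toAffine Polynomial.X = 0 := by
    rw [Algebra.smul_def, Algebra.smul_def, mul_one]
    exact h0
  obtain ⟨ha, hb⟩ := WeierstrassCurve.Affine.CoordinateRing.smul_basis_eq_zero h1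
  have e2 : (2 : k) = 0 := Polynomial.C_eq_zero.mp hb
  have e1 : W.a₁ = 0 := by simpa using congrArg (fun q : Polynomial k => q.coeff 1) ha
  have e3 : W.a₃ = 0 := by simpa using congrArg (fun q : Polynomial k => q.coeff 0) ha
  let Ω := AlgebraicClosure k
  obtain ⟨a, ha4⟩ := IsAlgClosed.exists_pow_nat_eq (-(algebraMap k Ω W.a₄)) (n := 2) (by norm_num)
  obtain ⟨b, hb2⟩ := IsAlgClosed.exists_pow_nat_eq
    (a ^ 3 + algebraMap k Ω W.a₂ * a ^ 2 + algebraMap k Ω W.a₄ * a + algebraMap k Ω W.a₆) (n := 2) (by norm_num)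
  have h2Ω : (2 : Ω) = 0 := by rw [← map_ofNat (algebraMap k Ω) 2, e2, map_zero]
  have he : (W.map (algebraMap k Ω)).toAffine.Equation a b := by
    rw [WeierstrassCurve.Affine.equation_iff]
    simp only [WeierstrassCurve.map_a₁, WeierstrassCurve.map_a₂, WeierstrassCurve.map_a₃,
      WeierstrassCurve.map_a₄, WeierstrassCurve.map_a₆, e1, e3, map_zero]
    linear_combination hb2
  have hns := (WeierstrassCurve.Affine.nonsingular_iff' a b).mp (hW Ω a b he)
  simp only [WeierstrassCurve.map_a₁, WeierstrassCurve.map_a₂, WeierstrassCurve.map_a₃,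
    WeierstrassCurve.map_a₄, e1, e3, map_zero] at hns
  rcases hns.2 with hX | hY
  · exact hX (by linear_combination -(a ^ 2 + algebraMap k Ω W.a₂ * a) * h2Ω - ha4)
  · exact hY (by linear_combination b * h2Ω)

end Groth.EllGroup
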