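import Groth.Agent.EllGroup.Points
import Groth.Agent.EllGroup.Proj
import Mathlib.AlgebraicGeometry.Birational.RationalMap

/-!
Morphisms into a Weierstrass model from triples in the local rings.
-/

set_option linter.style.haveILetI false
set_option linter.unusedSectionVars false
set_option backward.isDefEq.respectTransparency.types false

universe u

open CategoryTheory AlgebraicGeometry Opposite TopologicalSpace
open scoped Groth.CurveBridge WeierstrassCurve.Projective
open WeierstrassCurve.Projective (Point)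

namespace Groth.EllGroup

variable {k : Type u} [Field k]

/-- The `k`-algebra structure of a local ring. -/
@[implicit_reducible]
noncomputable def stalkAlg {T : Scheme.{u}} [T.Over (Spec (CommRingCat.of k))] (t : T) :
    Algebra k (T.presheaf.stalk t) :=
  (Curv2.stalkMap k T t).toAlgebra

attribute [local instance] stalkAlg

variable {T : Scheme.{u}} [T.Over (Spec (CommRingCat.of k))] [IsIntegral T]

/-- The local ring inside the function field. -/
noncomputable def toGen (t : T) : T.presheaf.stalk t →ₐ[k] T.functionField :=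
  { algebraMap (T.presheaf.stalk t) T.functionField with
    commutes' := fun c => Groth.CurveBridge.algebraMap_functionField k T t c }

theorem toGen_injective (t : T) : Function.Injective (toGen (k := k) t) :=
  IsFractionRing.injective (T.presheaf.stalk t) T.functionField

/-- The generic point. -/
noncomputable def genPt (T : Scheme.{u}) [IsIntegral T] : Spec T.functionField ⟶ T :=
  T.fromSpecStalk (genericPoint T)

theorem genPt_over : genPt T ≫ (T ↘ Spec (CommRingCat.of k)) =
    Spec.map (CommRingCat.ofHom (algebraMap k T.functionField)) :=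
  Groth.CurveBridge.fromSpecStalk_over k (genericPoint T)

/-- A point with values in a field at a point of the scheme. -/
noncomputable def atPt (t : T) {L : Type u} [Field L] [Algebra k L] (r : T.presheaf.stalk t →ₐ[k] L) :
    Spec (CommRingCat.of L) ⟶ T :=
  Spec.map (CommRingCat.ofHom r.toRingHom) ≫ T.fromSpecStalk t

theorem atPt_over (t : T) {L : Type u} [Field L] [Algebra k L] (r : T.presheaf.stalk t →ₐ[k] L) :
    atPt t r ≫ (T ↘ Spec (CommRingCat.of k)) = Spec.map (CommRingCat.ofHom (algebraMap k L)) := by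
  rw [atPt, Category.assoc, Groth.CurveBridge.fromSpecStalk_over, ← Spec.map_comp]
  congr 1
  exact CommRingCat.hom_ext (RingHom.ext fun c => r.commutes c)

theorem atPt_toGen (t : T) : atPt t (toGen (k := k) t) = genPt T := by
  rw [atPt, genPt]
  exact Scheme.SpecMap_stalkSpecializes_fromSpecStalk (genericPoint_specializes t)

variable {E : Scheme.{u}} [E.Over (Spec (CommRingCat.of k))] [IsIntegral E] (M : Model k E)

namespace Model

/-- The coordinates of a morphism in a local ring. -/
noncomputable def tri (f : T ⟶ E) (t : T) (i : Fin 3) (h : f t ∈ M.U i) : Fin 3 → T.presheaf.stalk t :=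
  (E.presheaf.germ (M.U i) (f t) h ≫ f.stalkMap t).hom ∘ M.c i

theorem tri_self (f : T ⟶ E) (t : T) (i : Fin 3) (h : f t ∈ M.U i) : M.tri f t i h i = 1 := by
  simp [tri, M.c_self]

theorem crd_atPt (f : T ⟶ E) (t : T) {L : Type u} [Field L] [Algebra k L] (r : T.presheaf.stalk t →ₐ[k] L)
    (i : Fin 3) (h : f t ∈ M.U i) :
    ∃ h' : (atPt t r ≫ f) (IsLocalRing.closedPoint L) ∈ M.U i,
      M.crd (atPt t r ≫ f) i h' = r ∘ M.tri f t i h := by
  have hg : Spec.map ((E.presheaf.germ (M.U i) (f t) h ≫ f.stalkMap t) ≫ CommRingCat.ofHom r.toRingHom) ≫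
      (M.affine i).fromSpec = atPt t r ≫ f := by
    rw [Spec.map_comp, Spec.map_comp, Category.assoc, Category.assoc,
      show Spec.map (E.presheaf.germ (M.U i) (f t) h) ≫ (M.affine i).fromSpec = E.fromSpecStalk (f t) from
        (M.affine i).fromSpecStalk_eq_fromSpecStalk h,
      Scheme.SpecMap_stalkMap_fromSpecStalk, atPt, Category.assoc]
    rfl
  refine ⟨M.mem_chart _ hg, ?_⟩
  rw [crd, M.ev_eq _ hg]
  rfl

variable {L : Type u} [Field L] [Algebra k L]

theorem over_comp {f : T ⟶ E} (hf : f ≫ (E ↘ Spec (CommRingCat.of k)) = T ↘ Spec (CommRingCat.of k))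
    {a : Spec (CommRingCat.of L) ⟶ T}
    (ha : a ≫ (T ↘ Spec (CommRingCat.of k)) = Spec.map (CommRingCat.ofHom (algebraMap k L))) :
    (a ≫ f) ≫ (E ↘ Spec (CommRingCat.of k)) = Spec.map (CommRingCat.ofHom (algebraMap k L)) := by
  rw [Category.assoc, hf, ha]

theorem pt_atPt {f : T ⟶ E} (hf : f ≫ (E ↘ Spec (CommRingCat.of k)) = T ↘ Spec (CommRingCat.of k))
    (t : T) (r : T.presheaf.stalk t →ₐ[k] L) (i : Fin 3) (h : f t ∈ M.U i) :
    (M.W⁄L).toProjective.Nonsingular (r ∘ M.tri f t i h) ∧
      M.pt (atPt t r ≫ f) = Point.toAffine (M.W⁄L).toProjective (r ∘ M.tri f t i h) := by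
  obtain ⟨h', he⟩ := M.crd_atPt f t r i h
  rw [← he]
  exact ⟨M.crd_nonsingular _ (over_comp hf (atPt_over t r)) i h', M.pt_eq _ i h'⟩

/-- The value at a generic point of a morphism. -/
noncomputable def gp (f : T ⟶ E) : (M.W⁄T.functionField).toAffine.Point := M.pt (genPt T ≫ f)

theorem gp_eq {f : T ⟶ E} (hf : f ≫ (E ↘ Spec (CommRingCat.of k)) = T ↘ Spec (CommRingCat.of k))
    (t : T) (i : Fin 3) (h : f t ∈ M.U i) :
    (M.W⁄T.functionField).toProjective.Nonsingular (toGen (k := k) t ∘ M.tri f t i h) ∧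
      M.gp f = Point.toAffine (M.W⁄T.functionField).toProjective (toGen (k := k) t ∘ M.tri f t i h) := by
  have := M.pt_atPt hf t (toGen (k := k) t) i h
  rwa [atPt_toGen] at this

/-- Equal generic values give equal morphisms. -/
theorem eq_of_gp [IsSeparated (E ↘ Spec (CommRingCat.of k))] {f g : T ⟶ E}
    (hf : f ≫ (E ↘ Spec (CommRingCat.of k)) = T ↘ Spec (CommRingCat.of k))
    (hg : g ≫ (E ↘ Spec (CommRingCat.of k)) = T ↘ Spec (CommRingCat.of k))
    (h : M.gp f = M.gp g) : f = g := by
  have he : genPt T ≫ f = genPt T ≫ g :=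
    M.pt_injective _ (over_comp hf genPt_over) _ (over_comp hg genPt_over) h
  haveI : IsDominant (genPt T) := by
    refine ⟨fun z => ?_⟩
    have : genericPoint T ∈ Set.range (genPt T).base :=
      ⟨IsLocalRing.closedPoint (T.presheaf.stalk (genericPoint T)), Scheme.fromSpecStalk_closedPoint⟩
    exact closure_mono (Set.singleton_subset_iff.mpr this)
      ((genericPoint_spec T).specializes trivial).mem_closure
  exact ext_of_isDominant_of_isSeparated (E ↘ Spec (CommRingCat.of k)) (hf.trans hg.symm) (genPt T) he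

/-- The value of a morphism at a point from a triple representing its generic value. -/
theorem pt_of_gp {m : T ⟶ E} (hm : m ≫ (E ↘ Spec (CommRingCat.of k)) = T ↘ Spec (CommRingCat.of k))
    {t : T} {w : Fin 3 → T.presheaf.stalk t}
    (hw : (M.W⁄T.functionField).toProjective.Nonsingular (toGen (k := k) t ∘ w))
    (h : M.gp m = Point.toAffine (M.W⁄T.functionField).toProjective (toGen (k := k) t ∘ w))
    (r : T.presheaf.stalk t →ₐ[k] L) (hr : (M.W⁄L).toProjective.Nonsingular (r ∘ w)) :
    M.pt (atPt t r ≫ m) = Point.toAffine (M.W⁄L).toProjective (r ∘ w) := by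
  obtain ⟨i, hi⟩ := Opens.mem_iSup.mp (M.cover.ge (Set.mem_univ (m t)))
  obtain ⟨hn, he⟩ := M.gp_eq hm t i hi
  obtain ⟨hn', he'⟩ := M.pt_atPt hm t r i hi
  rw [he'] 
  refine toAffine_eq_of_cross (exists_ne_zero_of_nonsingular hn') (exists_ne_zero_of_nonsingular hr) ?_
  refine Cross.map (r : T.presheaf.stalk t →+* L) (cross_of_map (f := (toGen (k := k) t).toRingHom) (toGen_injective t) ?_)
  exact cross_of_equiv (equiv_of_toAffine_eq hn hw (he.symm.trans h))

theorem mem_domain_of_triple [LocallyOfFiniteType (E ↘ Spec (CommRingCat.of k))]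
    (φ : E.functionField →ₐ[k] T.functionField) {t : T} {w : Fin 3 → T.presheaf.stalk t}
    (hw : ∃ i, IsUnit (w i)) (h : Cross (toGen (k := k) t ∘ w) (φ ∘ M.crdGen)) :
    ∃ g : T.PartialMap E, t ∈ g.domain ∧ g.hom ≫ (E ↘ Spec (CommRingCat.of k)) = g.domain.ι ≫ (T ↘ Spec (CommRingCat.of k)) ∧
      g.fromFunctionField = Spec.map (CommRingCat.ofHom φ.toRingHom) ≫ genPt E := by
  obtain ⟨i, hi⟩ := hw
  let γ : Γ(E, M.U i) →+* E.functionField := (E.presheaf.germ (M.U i) (genericPoint E) (M.mem i)).hom
  let ι := (toGen (k := k) t).toRingHom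
  have hrange : ∀ z, φ (γ z) ∈ ι.range := by
    have : (⊤ : Subring Γ(E, M.U i)) ≤ ι.range.comap ((φ : E.functionField →+* T.functionField).comp γ) := by
      rw [← M.gen i, Subring.closure_le]
      rintro _ (⟨a, rfl⟩ | ⟨l, rfl⟩)
      · refine ⟨algebraMap k _ a, ?_⟩
        show toGen (k := k) t _ = φ (γ (M.const i a))
        rw [AlgHom.commutes, show γ (M.const i a) = _ from M.germ_const i a, AlgHom.commutes]
      · obtain ⟨e, he⟩ := hi.exists_right_inv
        refine ⟨w l * e, ?_⟩
        show toGen (k := k) t (w l * e) = φ (γ (M.c i l))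
        rw [show γ (M.c i l) = M.crdGen l / M.crdGen i from M.germ_c i l, map_div₀, map_mul,
          eq_div_iff (by simpa using M.crdGen_ne_zero i)]
        have h1 := h l i
        simp only [Function.comp_apply] at h1
        have he' := congrArg (toGen (k := k) t) he
        rw [map_mul, map_one] at he'
        linear_combination (toGen (k := k) t e) * h1 + φ (M.crdGen l) * he'
    exact fun z => this (Subring.mem_top z)
  let eι : T.presheaf.stalk t ≃+* ι.range := RingEquiv.ofBijective ι.rangeRestrict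
    ⟨fun a b hab => toGen_injective (k := k) t (congrArg Subtype.val hab), ι.rangeRestrict_surjective⟩
  let G : Γ(E, M.U i) ⟶ T.presheaf.stalk t := CommRingCat.ofHom (eι.symm.toRingHom.comp
    (((φ : E.functionField →+* T.functionField).comp γ).codRestrict ι.range hrange))
  have hG : ∀ z, toGen (k := k) t (G z) = φ (γ z) := fun z =>
    congrArg Subtype.val (eι.apply_symm_apply ⟨φ (γ z), hrange z⟩)
  let s := Spec.map G ≫ (M.affine i).fromSpec
  have hs : s ≫ (E ↘ Spec (CommRingCat.of k)) = T.fromSpecStalk t ≫ (T ↘ Spec (CommRingCat.of k)) := by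
    rw [Category.assoc, M.fromSpec_over, Groth.CurveBridge.fromSpecStalk_over, ← Spec.map_comp]
    congr 1
    refine CommRingCat.hom_ext (RingHom.ext fun a => toGen_injective (k := k) t ?_)
    refine (hG (M.const i a)).trans ?_
    rw [show γ (M.const i a) = _ from M.germ_const i a, AlgHom.commutes]
    exact ((toGen (k := k) t).commutes a).symm
  obtain ⟨U, htU, g, hg1, hg2⟩ := spread_out_of_isGermInjective'
    (sX := T ↘ Spec (CommRingCat.of k)) (sY := E ↘ Spec (CommRingCat.of k)) s hs
  let P : T.PartialMap E := ⟨U, U.2.dense ⟨t, htU⟩, g⟩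
  refine ⟨P, htU, hg2, ?_⟩
  have hη : genericPoint T ∈ U := (genericPoint_specializes t).mem_open U.2 htU
  show U.fromSpecStalkOfMem (genericPoint T) hη ≫ g = _
  have e1 : U.fromSpecStalkOfMem (genericPoint T) hη =
      Spec.map (T.presheaf.stalkSpecializes (genericPoint_specializes t)) ≫ U.fromSpecStalkOfMem t htU := by
    rw [← cancel_mono U.ι, Category.assoc, Scheme.Opens.fromSpecStalkOfMem_ι, Scheme.Opens.fromSpecStalkOfMem_ι,
      Scheme.SpecMap_stalkSpecializes_fromSpecStalk]
  rw [e1, Category.assoc, ← hg1]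
  show Spec.map _ ≫ Spec.map G ≫ (M.affine i).fromSpec = _
  rw [← Spec.map_comp_assoc]
  have e2 : genPt E = Spec.map (E.presheaf.germ (M.U i) (genericPoint E) (M.mem i)) ≫ (M.affine i).fromSpec :=
    ((M.affine i).fromSpecStalk_eq_fromSpecStalk (M.mem i)).symm
  rw [e2, ← Spec.map_comp_assoc]
  congr 2
  exact CommRingCat.hom_ext (RingHom.ext hG)

theorem gp_id : M.gp (𝟙 E) = .some M.u M.v (M.nonsingular _ _ _ M.equation) := by
  obtain ⟨hn, he⟩ := M.gp_eq (Category.id_comp _) (genericPoint E) 2 (M.mem 2)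
  have key : (toGen (k := k) (genericPoint E)) ∘ M.tri (𝟙 E) (genericPoint E) 2 (M.mem 2) = ![M.u, M.v, 1] := by
    funext l
    show toGen (k := k) (genericPoint E) ((E.presheaf.germ (M.U 2) _ _ ≫ (𝟙 E : E ⟶ E).stalkMap _).hom (M.c 2 l)) = _
    rw [Scheme.Hom.stalkMap_id]
    refine (TopCat.Presheaf.germ_stalkSpecializes_apply E.presheaf (M.mem 2) _ _).trans ((M.germ_c 2 l).trans ?_)
    simp
  rw [key] at he hn
  exact he.trans (Point.toAffine_some hn)

/-- Morphisms from locally primitive triples of a given generic value. -/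
theorem exists_morphism [LocallyOfFiniteType (E ↘ Spec (CommRingCat.of k))] [IsSeparated (E ↘ Spec (CommRingCat.of k))]
    [JacobsonSpace T] {x y : T.functionField} (hns : (M.W⁄T.functionField).toAffine.Nonsingular x y)
    (hx : Transcendental k x)
    (hloc : ∀ t : T, IsClosed ({t} : Set T) → ∃ w : Fin 3 → T.presheaf.stalk t, (∃ i, IsUnit (w i)) ∧
      Cross (toGen (k := k) t ∘ w) ![x, y, 1]) :
    ∃ m : T ⟶ E, m ≫ (E ↘ Spec (CommRingCat.of k)) = T ↘ Spec (CommRingCat.of k) ∧ M.gp m = .some x y hns := by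
  classical
  haveI : E.IsSeparated := ⟨by
    rw [show Limits.terminal.from E = (E ↘ Spec (CommRingCat.of k)) ≫ Limits.terminal.from _ from
      Limits.terminal.hom_ext _ _]
    infer_instance⟩
  obtain ⟨φ, hφu, hφv⟩ := exists_algHom_of_point M.W M.equation M.transcendental M.top hns.left hx
  have hφc : φ ∘ M.crdGen = ![x, y, 1] := by
    funext l; fin_cases l <;> simp [crdGen, hφu, hφv]
  let f₀ := Spec.map (CommRingCat.ofHom φ.toRingHom) ≫ genPt E
  have hf₀ : f₀ ≫ (E ↘ Spec (CommRingCat.of k)) = T.fromSpecStalk _ ≫ (T ↘ Spec (CommRingCat.of k)) := by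
    rw [Category.assoc, genPt_over, Groth.CurveBridge.fromSpecStalk_over, ← Spec.map_comp]
    congr 1
    exact CommRingCat.hom_ext (RingHom.ext fun c => φ.commutes c)
  let R := Scheme.RationalMap.ofFunctionField (T ↘ Spec (CommRingCat.of k)) (E ↘ Spec (CommRingCat.of k)) f₀ hf₀
  have hdom : R.domain = ⊤ := by
    have hcl : closedPoints T ⊆ R.domain := fun t ht => by
      obtain ⟨w, hw, hc⟩ := hloc t ht
      obtain ⟨g, hg, -, hgf⟩ := M.mem_domain_of_triple φ hw (hφc ▸ hc)
      refine Scheme.RationalMap.mem_domain.mpr ⟨g, hg, Scheme.RationalMap.eq_of_fromFunctionField_eq _ _ ?_⟩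
      rw [Scheme.RationalMap.fromFunctionField_toRationalMap, hgf,
        Scheme.RationalMap.fromFunctionField_ofFunctionField]
    refine eq_top_iff.mpr fun t _ => ?_
    by_contra ht
    have : ((R.domain : Set T)ᶜ ∩ closedPoints T).Nonempty :=
      nonempty_inter_closedPoints ⟨t, ht⟩ R.domain.2.isClosed_compl.isLocallyClosed
    obtain ⟨z, hz, hz'⟩ := this
    exact hz (hcl hz')
  let P := R.toPartialMap
  have hP : P.domain = ⊤ := hdom
  let m : T ⟶ E := T.topIso.inv ≫ (T.isoOfEq hP).inv ≫ P.hom
  have hgm : genPt T ≫ m = f₀ := by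
    have h1 : R.fromFunctionField = f₀ := Scheme.RationalMap.fromFunctionField_ofFunctionField _ _ _ _
    rw [← Scheme.RationalMap.toRationalMap_toPartialMap R, Scheme.RationalMap.fromFunctionField_toRationalMap] at h1
    refine Eq.trans ?_ h1
    show _ = P.domain.fromSpecStalkOfMem (genericPoint T) _ ≫ P.hom
    simp only [m, ← Category.assoc]
    congr 1
    rw [← cancel_mono P.domain.ι]
    simp [genPt]
  haveI : IsDominant (genPt T) := by
    refine ⟨fun z => ?_⟩
    have : genericPoint T ∈ Set.range (genPt T).base :=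
      ⟨IsLocalRing.closedPoint (T.presheaf.stalk (genericPoint T)), Scheme.fromSpecStalk_closedPoint⟩
    exact closure_mono (Set.singleton_subset_iff.mpr this)
      ((genericPoint_spec T).specializes trivial).mem_closure
  have hm : m ≫ (E ↘ Spec (CommRingCat.of k)) = T ↘ Spec (CommRingCat.of k) := by
    refine ext_of_isDominant (ι := genPt T) ?_
    rw [← Category.assoc, hgm]
    exact hf₀
  refine ⟨m, hm, ?_⟩
  rw [gp, hgm, M.pt_map (genPt E) genPt_over φ]
  refine (congrArg (WeierstrassCurve.Affine.Point.map φ)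
    ((congrArg M.pt (Category.comp_id (genPt E))).symm.trans M.gp_id)).trans ?_
  rw [WeierstrassCurve.Affine.Point.map_some]
  simp [hφu, hφv]

end Model

end Groth.EllGroup
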