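import Groth.Agent.EllGroup.Sum
import Mathlib.CategoryTheory.Monoidal.Cartesian.Over
import Mathlib.CategoryTheory.Monoidal.Grp

/-!
The group law on a Weierstrass model.
-/

set_option linter.style.haveILetI false
set_option linter.unusedSectionVars false
set_option backward.isDefEq.respectTransparency.types false

universe u

open CategoryTheory Limits AlgebraicGeometry Opposite TopologicalSpace
open scoped Groth.CurveBridge WeierstrassCurve.Projective
open WeierstrassCurve.Projective (Point)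

namespace Groth.EllGroup

variable {k : Type u} [Field k]

attribute [local instance] stalkAlg Curv2.resAlgebra

variable {T : Scheme.{u}} [T.Over (Spec (CommRingCat.of k))] [IsIntegral T]
variable {E : Scheme.{u}} [E.Over (Spec (CommRingCat.of k))] [IsIntegral E] (M : Model k E)

namespace Model

/-- The constant map to the origin. -/
noncomputable def zeroMor (T : Scheme.{u}) [T.Over (Spec (CommRingCat.of k))] : T ⟶ E :=
  (T ↘ Spec (CommRingCat.of k)) ≫ M.o

theorem zeroMor_over : M.zeroMor T ≫ (E ↘ Spec (CommRingCat.of k)) = T ↘ Spec (CommRingCat.of k) := by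
  rw [zeroMor, Category.assoc, M.o_over, Category.comp_id]

theorem pt_origin {L : Type u} [Field L] [Algebra k L] (b : Spec (CommRingCat.of L) ⟶ Spec (CommRingCat.of k)) :
    M.pt (b ≫ M.o) = 0 := by
  have h1 : (b ≫ M.o) (IsLocalRing.closedPoint L) ∈ M.U 1 := by
    rw [Scheme.Hom.comp_apply]; exact M.origin _
  rw [M.pt_eq _ 1 h1]
  refine Point.toAffine_of_Z_eq_zero ?_
  by_contra hne
  refine M.origin_z (b (IsLocalRing.closedPoint L)) (M.inf 1 2 ▸ ⟨?_, ?_⟩)
  · exact (Scheme.Hom.comp_apply b M.o _) ▸ (M.crd_ne_zero_iff _ 1 2 h1).mp hne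
  · exact M.origin _

theorem gp_zeroMor : M.gp (M.zeroMor T) = 0 := by
  rw [gp, zeroMor, ← Category.assoc]
  exact M.pt_origin _

/-- The value of a pulled back sum at the generic point. -/
theorem gp_add [DecidableEq T.functionField] {P : Scheme.{u}} [P.Over (Spec (CommRingCat.of k))] [IsIntegral P]
    [DecidableEq P.functionField] {p q m : P ⟶ E}
    (hp : p ≫ (E ↘ Spec (CommRingCat.of k)) = P ↘ Spec (CommRingCat.of k))
    (hq : q ≫ (E ↘ Spec (CommRingCat.of k)) = P ↘ Spec (CommRingCat.of k))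
    (hm : m ≫ (E ↘ Spec (CommRingCat.of k)) = P ↘ Spec (CommRingCat.of k))
    (hs : M.gp m = M.gp p + M.gp q) (h : T ⟶ P) (hh : h ≫ (P ↘ Spec (CommRingCat.of k)) = T ↘ Spec (CommRingCat.of k))
    (hne : M.gp (h ≫ p) ≠ M.gp (h ≫ q)) : M.gp (h ≫ m) = M.gp (h ≫ p) + M.gp (h ≫ q) := by
  have key : ∀ φ : P ⟶ E, M.gp (h ≫ φ) =
      M.pt (atPt (h (genericPoint T)) ((toGen (k := k) (genericPoint T)).comp (stalkHom h hh (genericPoint T))) ≫ φ) :=
    fun φ => by
      rw [gp, ← Category.assoc, ← atPt_comp h hh, atPt_toGen]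
  rw [key, key] at hne
  rw [key, key, key]
  exact M.pt_sum hp hq hm hs _ _ hne

theorem gp_id_ne_zero : M.gp (𝟙 E) ≠ 0 := by
  rw [M.gp_id]
  simp

/-- The inverse. -/
theorem exists_neg [DecidableEq E.functionField] [LocallyOfFiniteType (E ↘ Spec (CommRingCat.of k))]
    [IsSeparated (E ↘ Spec (CommRingCat.of k))] :
    ∃ n : E ⟶ E, n ≫ (E ↘ Spec (CommRingCat.of k)) = E ↘ Spec (CommRingCat.of k) ∧
      M.gp n = -M.gp (𝟙 E) ∧ M.gp n ≠ M.gp (𝟙 E) := by
  classical
  haveI : JacobsonSpace E := LocallyOfFiniteType.jacobsonSpace (E ↘ Spec (CommRingCat.of k))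
  have he : (M.W⁄E.functionField).toAffine.Nonsingular M.u M.v := M.nonsingular E.functionField _ _ M.equation
  have hne : (M.W⁄E.functionField).toAffine.Nonsingular M.u ((M.W⁄E.functionField).toAffine.negY M.u M.v) :=
    (WeierstrassCurve.Affine.nonsingular_neg _ _).mpr he
  obtain ⟨n, hn, hgn⟩ := M.exists_morphism (T := E) hne M.transcendental fun t _ => by
    obtain ⟨i, hi⟩ := Opens.mem_iSup.mp (M.cover.ge (Set.mem_univ ((𝟙 E : E ⟶ E) t)))
    obtain ⟨hn, hp⟩ := M.gp_eq (Category.id_comp _) t i hi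
    obtain ⟨hn', -⟩ := M.pt_atPt (Category.id_comp _) t (resid (k := k) t) i hi
    set w := M.tri (𝟙 E) t i hi
    have mr := WeierstrassCurve.Projective.nonsingular_neg hn'
    rw [show (M.W⁄(E.residueField t)).toProjective.neg (resid (k := k) t ∘ w) =
        resid (k := k) t ∘ (M.W⁄(E.presheaf.stalk t)).toProjective.neg w from
      WeierstrassCurve.Projective.baseChange_neg (W' := M.W.toProjective) _ _] at mr
    obtain ⟨j, hj⟩ := exists_ne_zero_of_nonsingular mr
    refine ⟨(M.W⁄(E.presheaf.stalk t)).toProjective.neg w, ⟨j, isUnit_of_resid hj⟩, ?_⟩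
    have mg := WeierstrassCurve.Projective.nonsingular_neg hn
    have fg := Point.toAffine_neg hn
    have e1 : (M.W⁄E.functionField).toProjective.neg (toGen (k := k) t ∘ w) =
        toGen (k := k) t ∘ (M.W⁄(E.presheaf.stalk t)).toProjective.neg w :=
      WeierstrassCurve.Projective.baseChange_neg (W' := M.W.toProjective) _ _
    rw [e1] at mg fg
    refine cross_of_equiv (equiv_of_toAffine_eq mg ((WeierstrassCurve.Projective.nonsingular_some _ _).mpr hne) ?_)
    rw [fg, ← hp, M.gp_id, WeierstrassCurve.Affine.Point.neg_some,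
      Point.toAffine_some ((WeierstrassCurve.Projective.nonsingular_some _ _).mpr hne)]
  refine ⟨n, hn, ?_, ?_⟩
  · rw [hgn, M.gp_id, WeierstrassCurve.Affine.Point.neg_some]
  · rw [hgn, M.gp_id]
    intro h
    injection h with _ hv
    exact negY_ne_self M.W M.nonsingular M.equation M.transcendental hv

variable [IsSeparated (E ↘ Spec (CommRingCat.of k))] [GeometricallyIntegral (E ↘ Spec (CommRingCat.of k))]
  [LocallyOfFiniteType (E ↘ Spec (CommRingCat.of k))] [Flat (E ↘ Spec (CommRingCat.of k))]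
  [UniversallyOpen (E ↘ Spec (CommRingCat.of k))]
  [LocallyOfFiniteType (T ↘ Spec (CommRingCat.of k))]

/-- The sum of two maps that restrict to the identity and the origin along a section. -/
theorem exists_add [DecidableEq T.functionField] {p q : T ⟶ E}
    (hp : p ≫ (E ↘ Spec (CommRingCat.of k)) = T ↘ Spec (CommRingCat.of k))
    (hq : q ≫ (E ↘ Spec (CommRingCat.of k)) = T ↘ Spec (CommRingCat.of k))
    (σ : E ⟶ T) (hσ : σ ≫ (T ↘ Spec (CommRingCat.of k)) = E ↘ Spec (CommRingCat.of k))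
    (h1 : σ ≫ p = 𝟙 E) (h2 : σ ≫ q = M.zeroMor E) :
    ∃ m : T ⟶ E, m ≫ (E ↘ Spec (CommRingCat.of k)) = T ↘ Spec (CommRingCat.of k) ∧ M.gp m = M.gp p + M.gp q := by
  classical
  set t := σ (genericPoint E)
  let ψ := stalkHom σ hσ (genericPoint E)
  let r : T.presheaf.stalk t →ₐ[k] E.functionField := (toGen (k := k) (genericPoint E)).comp ψ
  have key : ∀ φ : T ⟶ E, M.pt (atPt t r ≫ φ) = M.gp (σ ≫ φ) := fun φ => by
    rw [gp, ← Category.assoc, ← atPt_comp σ hσ, atPt_toGen]
  have ea : M.pt (atPt t r ≫ p) = M.gp (𝟙 E) := by rw [key, h1]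
  have eb : M.pt (atPt t r ≫ q) = 0 := by rw [key, h2, M.gp_zeroMor]
  obtain ⟨w, n1, e1, n2, e2⟩ := M.sum_triple hp hq t r (by rw [ea, eb]; exact M.gp_id_ne_zero)
  rw [ea, eb, add_zero, M.gp_id] at e2
  have hz : r (w 2) ≠ 0 := fun h0 => by
    rw [Point.toAffine_of_Z_eq_zero h0] at e2
    simp at e2
  rw [Point.toAffine_of_Z_ne_zero n2 hz] at e2
  injection e2 with hu hv
  have hu2 : IsUnit (w 2) := by
    haveI : IsLocalHom (σ.stalkMap (genericPoint E)).hom := inferInstance
    refine (isUnit_map_iff (σ.stalkMap (genericPoint E)).hom (w 2)).mp ?_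
    have : (ψ (w 2) : E.functionField) ≠ 0 := fun h0 => hz (by
      show toGen (k := k) (genericPoint E) (ψ (w 2)) = 0
      rw [show ψ (w 2) = 0 from h0, map_zero])
    exact isUnit_iff_ne_zero (G₀ := E.functionField).mpr this
  obtain ⟨e, he⟩ := hu2.exists_right_inv
  have hz' : toGen (k := k) t (w 2) ≠ 0 := (map_ne_zero_iff _ (toGen_injective t)).mpr hu2.ne_zero
  rw [Point.toAffine_of_Z_ne_zero n1 hz'] at e1
  refine M.exists_sum hp hq ?_ e1.symm
  have hdiv : ∀ (F : Type u) [Field F] [Algebra k F] (ρ : T.presheaf.stalk t →ₐ[k] F),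
      ρ (w 2) ≠ 0 → ρ (w 0) / ρ (w 2) = ρ (w 0 * e) := fun F _ _ ρ hF => by
    have he' := congrArg ρ he
    rw [map_mul, map_one] at he'
    rw [map_mul, div_eq_iff hF, mul_assoc, mul_comm (ρ e), he', mul_one]
  intro halg
  refine M.transcendental ?_
  simp only [Function.comp_apply] at hu halg
  rw [hdiv _ _ hz'] at halg
  rw [← hu, hdiv _ r hz]
  exact ((isAlgebraic_algHom_iff (toGen (k := k) t) (toGen_injective t)).mp halg).algHom r

end Model

end Groth.EllGroup
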