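import Groth.Agent.EllGroup.Group

/-!
Commutative group scheme structures on curves of genus one with a rational point.
-/

set_option linter.style.haveILetI false
set_option linter.unusedSectionVars false
set_option backward.isDefEq.respectTransparency.types false

universe u

open CategoryTheory Limits AlgebraicGeometry MonoidalCategory CartesianMonoidalCategory
open scoped Groth.CurveBridge WeierstrassCurve.Projective

namespace Groth.EllGroup

variable {k : Type u} [Field k]

/-- The base map of an object over the field. -/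
@[implicit_reducible]
noncomputable def overLeft (X : Over (Spec (CommRingCat.of k))) : X.left.Over (Spec (CommRingCat.of k)) := ⟨X.hom⟩

attribute [local instance] overLeft

namespace Model

variable {X : Over (Spec (CommRingCat.of k))} [IsIntegral X.left] (M : Model k X.left)

/-- The generic value of a point over the field. -/
noncomputable def val {Y : Over (Spec (CommRingCat.of k))} [IsIntegral Y.left] (a : Y ⟶ X) :
    (M.W⁄Y.left.functionField).toAffine.Point := M.gp a.left

theorem val_ext [IsSeparated X.hom] {Y : Over (Spec (CommRingCat.of k))} [IsIntegral Y.left] {a b : Y ⟶ X}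
    (h : M.val a = M.val b) : a = b := by
  haveI : IsSeparated (X.left ↘ Spec (CommRingCat.of k)) := ‹IsSeparated X.hom›
  exact Over.OverMorphism.ext (M.eq_of_gp (Over.w a) (Over.w b) h)

theorem val_homMk {Y : Over (Spec (CommRingCat.of k))} [IsIntegral Y.left] (f : Y.left ⟶ X.left)
    (hf : f ≫ X.hom = Y.hom) : M.val (Over.homMk f hf) = M.gp f := rfl

theorem val_id : M.val (𝟙 X) = M.gp (𝟙 X.left) := rfl

theorem val_toUnit {Y : Over (Spec (CommRingCat.of k))} [IsIntegral Y.left] (o : 𝟙_ _ ⟶ X) (ho : M.o = o.left) :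
    M.val (toUnit Y ≫ o) = 0 := by
  rw [val, Over.comp_left, ← ho]
  exact M.gp_zeroMor

theorem val_lift {μ : X ⊗ X ⟶ X} [IsIntegral (X ⊗ X).left] [DecidableEq (X ⊗ X).left.functionField]
    (hμ : M.val μ = M.val (fst X X) + M.val (snd X X))
    {Y : Over (Spec (CommRingCat.of k))} [IsIntegral Y.left] [DecidableEq Y.left.functionField] (a b : Y ⟶ X)
    (hne : M.val a ≠ M.val b) : M.val (lift a b ≫ μ) = M.val a + M.val b := by
  have ea : (lift a b).left ≫ (fst X X).left = a.left := by rw [← Over.comp_left, lift_fst]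
  have eb : (lift a b).left ≫ (snd X X).left = b.left := by rw [← Over.comp_left, lift_snd]
  have := M.gp_add (T := Y.left) (Over.w (fst X X)) (Over.w (snd X X)) (Over.w μ) hμ (lift a b).left
    (Over.w (lift a b)) (by rw [ea, eb]; exact hne)
  rw [ea, eb] at this
  exact this

theorem exists_grpObj_of_model [IsProper X.hom] [Smooth X.hom] [GeometricallyIntegral X.hom]
    (o : 𝟙_ (Over (Spec (CommRingCat.of k))) ⟶ X) (ho : M.o = o.left) :
    ∃ G : GrpObj X, @MonObj.one _ _ _ X G.toMonObj = o ∧ @IsCommMonObj _ _ _ _ X G.toMonObj := by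
  classical
  haveI : IsSeparated (X.left ↘ Spec (CommRingCat.of k)) := inferInstanceAs (IsSeparated X.hom)
  haveI : GeometricallyIntegral (X.left ↘ Spec (CommRingCat.of k)) := ‹GeometricallyIntegral X.hom›
  haveI : Smooth (X.left ↘ Spec (CommRingCat.of k)) := ‹Smooth X.hom›
  haveI : LocallyOfFiniteType (X.left ↘ Spec (CommRingCat.of k)) := inferInstanceAs (LocallyOfFiniteType X.hom)
  haveI : IsLocallyNoetherian X.left := LocallyOfFiniteType.isLocallyNoetherian X.hom
  haveI : IsIntegral (X ⊗ X).left := inferInstanceAs (IsIntegral (pullback X.hom X.hom))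
  haveI : LocallyOfFiniteType ((X ⊗ X).left ↘ Spec (CommRingCat.of k)) :=
    inferInstanceAs (LocallyOfFiniteType (pullback.fst X.hom X.hom ≫ X.hom))
  haveI : IsLocallyNoetherian (X ⊗ X).left :=
    LocallyOfFiniteType.isLocallyNoetherian ((X ⊗ X).left ↘ Spec (CommRingCat.of k))
  haveI : IsIntegral ((X ⊗ X) ⊗ X).left :=
    inferInstanceAs (IsIntegral (pullback (X ⊗ X).hom X.hom))
  let z : ∀ Y : Over (Spec (CommRingCat.of k)), Y ⟶ X := fun Y => toUnit Y ≫ o
  have hz : ∀ {Y Y' : Over (Spec (CommRingCat.of k))} (a : Y ⟶ Y'), a ≫ z Y' = z Y := fun a => by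
    simp only [z, ← Category.assoc, toUnit_unique (a ≫ toUnit _) (toUnit _)]
  have hid : 𝟙 X ≠ z X := fun h => M.gp_id_ne_zero (by rw [← M.val_id, h, M.val_toUnit o ho])
  obtain ⟨m, hm, hgm⟩ := M.exists_add (Over.w (fst X X)) (Over.w (snd X X)) (lift (𝟙 X) (z X)).left
    (Over.w (lift (𝟙 X) (z X))) (by rw [← Over.comp_left, lift_fst, Over.id_left])
    (by rw [← Over.comp_left, lift_snd]; exact congrArg (X.hom ≫ ·) ho.symm)
  let μ : X ⊗ X ⟶ X := Over.homMk m hm
  have hμ : M.val μ = M.val (fst X X) + M.val (snd X X) := (M.val_homMk m hm).trans hgm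
  have hadd := fun {Y : Over (Spec (CommRingCat.of k))} [IsIntegral Y.left] (a b : Y ⟶ X) (hne : a ≠ b) =>
    M.val_lift hμ a b (fun h => hne (M.val_ext h))
  -- units
  have hl : lift (z X) (𝟙 X) ≫ μ = 𝟙 X :=
    M.val_ext (by rw [hadd _ _ hid.symm, M.val_toUnit o ho, zero_add])
  have hr : lift (𝟙 X) (z X) ≫ μ = 𝟙 X :=
    M.val_ext (by rw [hadd _ _ hid, M.val_toUnit o ho, add_zero])
  have hl' : ∀ {Y : Over (Spec (CommRingCat.of k))} (a : Y ⟶ X), lift (z Y) a ≫ μ = a := fun a => by
    have := a ≫= hl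
    rwa [comp_lift_assoc, hz, Category.comp_id] at this
  have hr' : ∀ {Y : Over (Spec (CommRingCat.of k))} (a : Y ⟶ X), lift a (z Y) ≫ μ = a := fun a => by
    have := a ≫= hr
    rwa [comp_lift_assoc, hz, Category.comp_id] at this
  -- commutativity
  have hfs : fst X X ≠ snd X X := fun h => hid (by
    have := lift (𝟙 X) (z X) ≫= h
    rwa [lift_fst, lift_snd] at this)
  have hcomm : lift (snd X X) (fst X X) ≫ μ = μ :=
    M.val_ext (by rw [hadd _ _ hfs.symm, hμ, add_comm])
  -- associativity
  have hassoc : lift (lift (fst (X ⊗ X) X ≫ fst X X) (fst (X ⊗ X) X ≫ snd X X) ≫ μ) (snd (X ⊗ X) X) ≫ μ =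
      lift (fst (X ⊗ X) X ≫ fst X X) (lift (fst (X ⊗ X) X ≫ snd X X) (snd (X ⊗ X) X) ≫ μ) ≫ μ := by
    set a := fst (X ⊗ X) X ≫ fst X X
    set b := fst (X ⊗ X) X ≫ snd X X
    set c := snd (X ⊗ X) X
    let t : ∀ (p q r : X ⟶ X), X ⟶ (X ⊗ X) ⊗ X := fun p q r => lift (lift p q) r
    have ta : ∀ p q r, t p q r ≫ a = p := fun p q r => by simp [t, a]
    have tb : ∀ p q r, t p q r ≫ b = q := fun p q r => by simp [t, b]
    have tc : ∀ p q r, t p q r ≫ c = r := fun p q r => by simp [t, c]
    have n1 : a ≠ b := fun h => hid (by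
      have := t (𝟙 X) (z X) (z X) ≫= h
      rwa [ta, tb] at this)
    have n2 : b ≠ c := fun h => hid (by
      have := t (z X) (𝟙 X) (z X) ≫= h
      rwa [tb, tc] at this)
    have n3 : lift a b ≫ μ ≠ c := fun h => hid (by
      have := t (z X) (z X) (𝟙 X) ≫= h
      rw [comp_lift_assoc, ta, tb, tc, hl'] at this
      exact this.symm)
    have n4 : a ≠ lift b c ≫ μ := fun h => hid (by
      have := t (𝟙 X) (z X) (z X) ≫= h
      rwa [comp_lift_assoc, ta, tb, tc, hl'] at this)
    refine M.val_ext ?_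
    rw [hadd _ _ n3, hadd _ _ n4, hadd _ _ n1, hadd _ _ n2, add_assoc]
  -- inverse
  obtain ⟨n, hn, hgn, hnne⟩ := M.exists_neg
  let ι : X ⟶ X := Over.homMk n hn
  have hιn : M.val ι = M.gp n := M.val_homMk n hn
  have hι : ι ≠ 𝟙 X := fun h => hnne (by rw [← hιn, h, M.val_id])
  have hvι : M.val ι = -M.val (𝟙 X) := by rw [hιn, hgn, M.val_id]
  let MX : MonObj X :=
    { one := o
      mul := μ
      one_mul := by
        rw [show o ▷ X = lift (z (𝟙_ _ ⊗ X)) (snd _ _) from by ext <;> simp [z, toUnit_unique (fst (𝟙_ _) X) (toUnit _)],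
          hl', leftUnitor_hom]
      mul_one := by
        rw [show X ◁ o = lift (fst _ _) (z (X ⊗ 𝟙_ _)) from by ext <;> simp [z, toUnit_unique (snd X (𝟙_ _)) (toUnit _)],
          hr', rightUnitor_hom]
      mul_assoc := by
        rw [show μ ▷ X = lift (lift (fst (X ⊗ X) X ≫ fst X X) (fst (X ⊗ X) X ≫ snd X X) ≫ μ) (snd (X ⊗ X) X) from by
          ext <;> simp [← comp_lift_assoc], hassoc, ← Category.assoc]
        congr 1
        apply CartesianMonoidalCategory.hom_ext
        · simp
        · rw [lift_snd, Category.assoc, whiskerLeft_snd, ← Category.assoc]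
          congr 1
          ext <;> simp }
  refine ⟨{ toMonObj := MX, inv := ι, left_inv := ?_, right_inv := ?_ }, rfl, ⟨?_⟩⟩
  · exact M.val_ext ((hadd _ _ hι).trans (by rw [hvι, neg_add_cancel]; exact (M.val_toUnit o ho).symm))
  · exact M.val_ext ((hadd _ _ hι.symm).trans (by rw [hvι, add_neg_cancel]; exact (M.val_toUnit o ho).symm))
  · show (β_ X X).hom ≫ μ = μ
    rw [show (β_ X X).hom = lift (snd X X) (fst X X) from by ext <;> simp, hcomm]

end Model

end Groth.EllGroup
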