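import Groth.Agent.EllGroup.GrpObjStruct
import Groth.Agent.CurveBridge.SectionH0
import Groth.Agent.CurveBridge.BaseChange
import Groth.Agent.AlgGrp1.SmoothReduced
import Groth.Agent.GrpschAbsch.AbSchOmega

/-!
Curves of genus one with a point are group schemes, and conversely.
-/

set_option linter.style.haveILetI false
set_option linter.unusedSectionVars false
set_option backward.isDefEq.respectTransparency.types false

universe u

open CategoryTheory Limits AlgebraicGeometry MonoidalCategory CartesianMonoidalCategory MonObj
open Groth.PicAux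

namespace Groth.EllGroup

attribute [local instance] overLeft

variable {k : Type u} [Field k]

/-- A connected smooth proper scheme with a rational point is geometrically integral. -/
theorem geometricallyIntegral_of_section {X : Scheme.{u}} (f : X ⟶ Spec (CommRingCat.of k)) [IsProper f] [Smooth f]
    [ConnectedSpace X] (e : Spec (CommRingCat.of k) ⟶ X) (he : e ≫ f = 𝟙 _) : GeometricallyIntegral f := by
  haveI := Groth.AlgGrp1.geometricallyConnected_of_point f e he
  refine ⟨fun K _ y Y fst snd h => ?_⟩
  let : Y.Over (Spec (CommRingCat.of K)) := ⟨snd⟩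
  have : IsProper (Y ↘ Spec (CommRingCat.of K)) := MorphismProperty.of_isPullback h ‹IsProper f›
  have : Smooth (Y ↘ Spec (CommRingCat.of K)) := MorphismProperty.of_isPullback h ‹Smooth f›
  have : ConnectedSpace Y := GeometricallyConnected.geometrically_connectedSpace y fst snd h
  exact Groth.CurveBridge.isIntegral_of_smooth K Y

variable (X : Over (Spec (CommRingCat.of k))) [IsProper X.hom] [Smooth X.hom] [ConnectedSpace X.left]

/-- A curve of genus one with a rational point is a commutative group scheme with that origin. -/
theorem exists_grpObj (hdim : topologicalKrullDim X.left = 1) (hg : Curv2.genus k X.left = 1)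
    (o : 𝟙_ (Over (Spec (CommRingCat.of k))) ⟶ X) :
    ∃ G : GrpObj X, @MonObj.one _ _ _ X G.toMonObj = o ∧ @IsCommMonObj _ _ _ _ X G.toMonObj := by
  haveI : IsProper (X.left ↘ Spec (CommRingCat.of k)) := ‹IsProper X.hom›
  haveI : Smooth (X.left ↘ Spec (CommRingCat.of k)) := ‹Smooth X.hom›
  have ho : o.left ≫ X.hom = 𝟙 _ := Over.w o
  haveI := geometricallyIntegral_of_section X.hom o.left ho
  haveI : IsIntegral X.left := GeometricallyIntegral.isIntegral_of_subsingleton X.hom
  have h0 := Groth.CurveBridge.finrank_h0_of_section k (X := X.left) o.left ho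
  obtain ⟨M, hM⟩ := exists_model k X.left hdim h0 hg o.left ho
  exact M.exists_grpObj_of_model o hM

/-- An invertible module on the spectrum of a field is trivial. -/
theorem nonempty_iso_structure_of_field {N : (Spec (CommRingCat.of k)).Modules} (hN : PicF.IsInvertible N) :
    Nonempty (N ≅ Coh.structureModule _) := by
  obtain ⟨U, s, -, hmem, hs⟩ := exists_gen_cover hN
  have hU : U default = ⊤ := TopologicalSpace.Opens.ext (Set.eq_univ_of_forall fun y => by
    rw [Subsingleton.elim y default]; exact hmem _)
  exact nonempty_iso_structure_iff.2 ⟨_, (hs default).res hU.ge⟩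

/-- A group scheme that is a smooth proper connected curve has genus one. -/
theorem genus_eq_one [GrpObj X] (hdim : topologicalKrullDim X.left = 1) : Curv2.genus k X.left = 1 := by
  haveI : IsProper (X.left ↘ Spec (CommRingCat.of k)) := ‹IsProper X.hom›
  haveI : Smooth (X.left ↘ Spec (CommRingCat.of k)) := ‹Smooth X.hom›
  have he : η[X].left ≫ X.hom = 𝟙 _ := Over.w η[X]
  haveI : GeometricallyConnected X.hom := Groth.AlgGrp1.geometricallyConnected_of_point X.hom _ he
  haveI : GeometricallyReduced X.hom := Groth.AlgGrp1.geometricallyReduced_of_smooth X.hom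
  have h0 := Groth.CurveBridge.finrank_h0_of_section k (X := X.left) η[X].left he
  obtain ⟨N, -, ⟨i⟩, ⟨j⟩, -⟩ := Groth.GrpschAbsch.AbSchOmega.exists_model_omega X
  obtain ⟨hn, -, -⟩ := Groth.CurveBridge.omega_numerics_field k X.left hdim h0
  have hΩ : PicF.IsInvertible (Omega.sheaf X.hom) := Groth.CurveBridge.isInvertible_omega_field k X.left hdim h0
  have hN : PicF.IsInvertible N := isInvertible_of_iso (isInvertible_pullback η[X].left hΩ) i.symm
  obtain ⟨t⟩ := nonempty_iso_structure_of_field hN
  haveI := isIso_pullUnit X.hom
  refine hn.symm.trans (Eq.trans ?_ h0)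
  exact Groth.EulerDeg.finrank_congr (j ≪≫ (Scheme.Modules.pullback X.hom).mapIso t ≪≫ asIso (pullUnit X.hom)) 0

end Groth.EllGroup
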