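import Groth.Agent.CurveBridge.WeierstrassModel
import Groth.Agent.EllGroup.Algebra

/-!
Weierstrass coordinate models of curves of genus one with a rational point.
-/

set_option linter.style.haveILetI false
set_option backward.isDefEq.respectTransparency.types false
set_option linter.unusedSectionVars false

universe u

open CategoryTheory AlgebraicGeometry Opposite TopologicalSpace WithZero
open Groth.PicAux Groth.Chow Groth.FunFld1 Groth.CurveBridge

namespace Groth.EllGroup

/-- A Weierstrass coordinate model of a curve: three affine charts generated by the ratios of the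
coordinates `(u : v : 1)`, and a rational origin at infinity. -/
structure Model (k : Type u) [Field k] (E : Scheme.{u}) [E.Over (Spec (CommRingCat.of k))] [IsIntegral E] where
  W : WeierstrassCurve k
  nonsingular : AllNonsingular W
  u : E.functionField
  v : E.functionField
  transcendental : Transcendental k u
  top : IntermediateField.adjoin k ({u, v} : Set E.functionField) = ⊤
  equation : (W.map (algebraMap k E.functionField)).toAffine.Equation u v
  v_ne : v ≠ 0
  U : Fin 3 → E.Opens
  affine : ∀ i, IsAffineOpen (U i)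
  cover : ⨆ i, U i = ⊤
  mem : ∀ i, genericPoint E ∈ U i
  c : ∀ i, Fin 3 → Γ(E, U i)
  germ_c : ∀ i l, E.presheaf.germ (U i) (genericPoint E) (mem i) (c i l) =
    (![u, v, 1] : Fin 3 → E.functionField) l / (![u, v, 1] : Fin 3 → E.functionField) i
  inf : ∀ i j, U j ⊓ U i = E.basicOpen (c i j)
  gen : ∀ i, Subring.closure (Set.range (fun a : k => E.presheaf.map (homOfLE le_top).op
      (Coh.toGlobal (E ↘ Spec (CommRingCat.of k)) a)) ∪ Set.range (c i)) = ⊤
  o : Spec (CommRingCat.of k) ⟶ E
  o_over : o ≫ (E ↘ Spec (CommRingCat.of k)) = 𝟙 _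
  origin : ∀ w, o w ∈ U 1
  origin_x : ∀ w, o w ∉ E.basicOpen (c 1 0)
  origin_z : ∀ w, o w ∉ E.basicOpen (c 1 2)

variable (k : Type u) [Field k] (X : Scheme.{u}) [X.Over (Spec (CommRingCat.of k))] [IsIntegral X]
  [IsProper (X ↘ Spec (CommRingCat.of k))] [Smooth (X ↘ Spec (CommRingCat.of k))]
  (hdim : topologicalKrullDim X = 1)
  (h0 : Module.finrank k (Coh.HH X (Coh.structureModule X) 0) = 1)
include hdim h0

theorem exists_weierstrass (hg : Curv2.genus k X = 1) {P : FunFld.Place k X.functionField} (hP : P.deg = 1) :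
    ∃ (W : WeierstrassCurve k) (u v : X.functionField), u ∈ FunFld.L (Finsupp.single P 2) ∧
      v ∈ FunFld.L (Finsupp.single P 3) ∧ P.1 u = exp (2 : ℤ) ∧ P.1 v = exp (3 : ℤ) ∧
      Transcendental k u ∧ IntermediateField.adjoin k ({u, v} : Set X.functionField) = ⊤ ∧
      (W.map (algebraMap k X.functionField)).toAffine.Equation u v := by
  have h : IsRegCurve X := isRegCurve_of_smooth k X hdim
  have hK := isFunctionField_field k X hdim h0
  have hgK : FunFld.genus k X.functionField = 1 := by rw [← genus_eq h hK]; exact hg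
  obtain ⟨x₀, y₀, hx, hy, ox, oy, htop, f, g, hf, hgd, heq⟩ := weierstrass_form hK hgK hP
  set g3 := g.coeff 3
  have hg3 : g3 ≠ 0 := by
    rw [show g3 = g.leadingCoeff by rw [Polynomial.leadingCoeff, hgd]]
    exact Polynomial.leadingCoeff_ne_zero.mpr fun h => by simp [h] at hgd
  rw [Polynomial.aeval_eq_sum_range' (show f.natDegree < 2 by omega),
    Polynomial.aeval_eq_sum_range' (show g.natDegree < 4 by omega)] at heq
  simp only [Finset.sum_range_succ, Finset.sum_range_zero, zero_add, pow_zero, pow_one,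
    Algebra.smul_def, mul_one] at heq
  let A := algebraMap k X.functionField
  have hA : A g3 ≠ 0 := (map_ne_zero A).mpr hg3
  have hu : P.1 (A (-g3⁻¹) * x₀) = exp (2 : ℤ) := by
    rw [map_mul, val_algebraMap P (neg_ne_zero.mpr (inv_ne_zero hg3)), one_mul,
      val_eq_exp_neg_ord P (fun h => by simp [h, FunFld.Place.ord] at ox), ox, neg_neg]
  have hv : P.1 (A (g3 ^ 2)⁻¹ * y₀) = exp (3 : ℤ) := by
    rw [map_mul, val_algebraMap P (inv_ne_zero (pow_ne_zero _ hg3)), one_mul,
      val_eq_exp_neg_ord P (fun h => by simp [h, FunFld.Place.ord] at oy), oy, neg_neg]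
  have hL : ∀ (D : FunFld.Divisor k X.functionField) (c : k) {w : X.functionField},
      w ∈ FunFld.L D → A c * w ∈ FunFld.L D := fun D c w hw => by
    rw [← Algebra.smul_def]; exact (FunFld.L D).smul_mem c hw
  refine ⟨⟨-f.coeff 1 / g3, -g.coeff 2 / g3 ^ 2, f.coeff 0 / g3 ^ 2, g.coeff 1 / g3 ^ 3,
    -g.coeff 0 / g3 ^ 4⟩, _, _, hL _ _ hx, hL _ _ hy, hu, hv, transcendental_of_notMem hK ?_, ?_, ?_⟩
  · rintro ⟨c, hc⟩
    rw [← hc] at hu
    by_cases hc0 : c = 0
    · rw [hc0, map_zero, map_zero] at hu; exact exp_ne_zero hu.symm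
    · rw [val_algebraMap P hc0, ← exp_zero] at hu
      exact absurd (exp_inj.mp hu) (by norm_num)
  · rw [eq_top_iff, ← htop, IntermediateField.adjoin_le_iff]
    set T := IntermediateField.adjoin k ({A (-g3⁻¹) * x₀, A (g3 ^ 2)⁻¹ * y₀} : Set X.functionField)
    rintro w (rfl | rfl)
    · rw [show w = A (-g3) * (A (-g3⁻¹) * w) by
        rw [← mul_assoc, ← map_mul, neg_mul_neg, mul_inv_cancel₀ hg3, map_one, one_mul]]
      exact mul_mem (T.algebraMap_mem _) (IntermediateField.subset_adjoin _ _ (Set.mem_insert _ _))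
    · rw [show w = A (g3 ^ 2) * (A (g3 ^ 2)⁻¹ * w) by
        rw [← mul_assoc, ← map_mul, mul_inv_cancel₀ (pow_ne_zero _ hg3), map_one, one_mul]]
      exact mul_mem (T.algebraMap_mem _)
        (IntermediateField.subset_adjoin _ _ (Set.mem_insert_of_mem _ rfl))
  · rw [WeierstrassCurve.Affine.equation_iff]
    simp only [WeierstrassCurve.map_a₁, WeierstrassCurve.map_a₂, WeierstrassCurve.map_a₃,
      WeierstrassCurve.map_a₄, WeierstrassCurve.map_a₆]
    simp only [A, map_div₀, map_neg, map_pow, map_inv₀] at hA ⊢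
    field_simp
    linear_combination heq

omit h0 hdim in
theorem closure_coords_eq_top {n : ℕ} {L : X.Modules} {s : Fin (n + 1) → ProjUP.Γm L}
    {r : X ⟶ CohB1.ProjSpace n k} [IsClosedImmersion r] (hU : ⨆ i, ToPn.U L s i = ⊤)
    (hr : ∀ i, (ToPn.U L s i).ι ≫ r = ToPn.rU (X ↘ Spec (CommRingCat.of k)) L s i) (i : Fin (n + 1)) :
    Subring.closure (Set.range (fun a : k => X.presheaf.map (homOfLE le_top).op
      (Coh.toGlobal (X ↘ Spec (CommRingCat.of k)) a)) ∪ Set.range (ToPn.c L s i)) = ⊤ := by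
  rw [eq_top_iff]
  intro a _
  have hpre := ToPn.preimage_D hr hU i
  have hD : IsAffineOpen (X := CohB1.ProjSpace n k) (LefPen.chart n k i) :=
    Proj.isAffineOpen_basicOpen (CohB1.polyGrading n k) _ (ToPn.X_mem i) one_pos
  obtain ⟨b, hb⟩ := Scheme.Hom.app_surjective r _ hD (X.presheaf.map (eqToHom hpre).op a)
  obtain ⟨ζ, rfl⟩ := (ConcreteCategory.bijective_of_isIso
    (Proj.basicOpenIsoAway (CohB1.polyGrading n k) (MvPolynomial.X i) (ToPn.X_mem i) one_pos).hom).2 b
  have ha : r.appLE (LefPen.chart n k i) (ToPn.U L s i) hpre.ge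
      (Proj.awayToSection (CohB1.polyGrading n k) (MvPolynomial.X i) ζ) = a := by
    rw [Scheme.Hom.appLE, CategoryTheory.comp_apply]
    erw [hb]
    change (X.presheaf.map (eqToHom hpre).op ≫ X.presheaf.map (homOfLE hpre.ge).op) a = a
    rw [← Functor.map_comp, ← op_comp,
      Subsingleton.elim ((homOfLE hpre.ge) ≫ eqToHom hpre) (𝟙 _), op_id, CategoryTheory.Functor.map_id]
    rfl
  rw [← ha]
  erw [ToPn.appLE_awayToSection hr i hpre.ge ζ]
  obtain ⟨d, p, hp, rfl⟩ := HomogeneousLocalization.Away.mk_surjective _ (ToPn.X_mem i) ζ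
  rw [ToPn.α, ToPn.chart_mk]
  suffices ∀ q, MvPolynomial.eval₂Hom (ToPn.baseMap (X ↘ Spec (CommRingCat.of k)) L s i) (ToPn.c L s i) q ∈ _ from this p
  intro q
  induction q using MvPolynomial.induction_on with
  | C a => rw [MvPolynomial.eval₂Hom_C]; exact Subring.subset_closure (Or.inl ⟨a, rfl⟩)
  | add p q ep eq => rw [map_add]; exact Subring.add_mem _ ep eq
  | mul_X p l ep =>
    rw [map_mul]
    exact Subring.mul_mem _ ep (Subring.subset_closure (Or.inr ⟨l, (MvPolynomial.eval₂Hom_X' _ _ _).symm⟩))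

omit h0 hdim in
theorem exists_point_deg_one (h : IsRegCurve X) (o : Spec (CommRingCat.of k) ⟶ X)
    (ho : o ≫ (X ↘ Spec (CommRingCat.of k)) = 𝟙 _) (w₀ : Spec (CommRingCat.of k)) :
    ∃ x : Pt X, x.1 = o w₀ ∧ (placeAt (k := k) h x).deg = 1 := by
  haveI : IsClosedImmersion (o ≫ (X ↘ Spec (CommRingCat.of k))) := by rw [ho]; infer_instance
  haveI : IsClosedImmersion o := IsClosedImmersion.of_comp o (X ↘ Spec (CommRingCat.of k))
  have hc : IsClosed ({o w₀} : Set X) := by
    rw [← Set.image_singleton]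
    exact o.isClosedEmbedding.isClosedMap _ (isClosed_discrete _)
  refine ⟨⟨o w₀, hc⟩, rfl, (bijective_resMap_iff h ⟨o w₀, hc⟩).mp ?_⟩
  set y := (X.SpecToEquivOfField k o).1
  set φ := (X.SpecToEquivOfField k o).2
  have hsx : Spec.map φ ≫ X.fromSpecResidueField y = o := (X.SpecToEquivOfField k).symm_apply_apply o
  have hyo : y = o w₀ := by
    rw [← hsx, Scheme.Hom.comp_apply]
    exact (X.fromSpecResidueField_apply y _).symm
  have hres : CommRingCat.ofHom (Curv2.resMap k X y) ≫ φ = 𝟙 _ := by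
    refine Spec.map_injective ?_
    rw [Spec.map_comp, Spec.map_id, ← ho, ← hsx, Category.assoc]
    congr 1
    rw [Scheme.fromSpecResidueField, Category.assoc, fromSpecStalk_over, ← Spec.map_comp]
    rfl
  show Function.Bijective (Curv2.resMap k X (o w₀))
  rw [← hyo]
  exact ⟨(Curv2.resMap k X y).injective, fun w => ⟨φ w, φ.hom.injective (ConcreteCategory.congr_hom hres (φ w))⟩⟩

/-- A smooth curve of genus one with a rational point has a Weierstrass coordinate model with that
point as origin. -/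
theorem exists_model (hg : Curv2.genus k X = 1) (o : Spec (CommRingCat.of k) ⟶ X)
    (ho : o ≫ (X ↘ Spec (CommRingCat.of k)) = 𝟙 _) : ∃ M : Model k X, M.o = o := by
  classical
  have h : IsRegCurve X := isRegCurve_of_smooth k X hdim
  -- the closed point of the section and its place
  let w₀ : Spec (CommRingCat.of k) := default
  obtain ⟨x₁, hx₁o, hx₁⟩ := exists_point_deg_one k X h o ho w₀
  set P := placeAt (k := k) h x₁
  obtain ⟨W, u, v, huL, hvL, hu, hv, hut, htop, heq⟩ := exists_weierstrass k X hdim h0 hg hx₁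
  obtain ⟨L, s, r, hU, hr, hover, hclosed, hz0, hη, hc⟩ :=
    exists_cubic_coords k X hdim h0 hg hx₁ huL hvL hu hv
  haveI : IsClosedImmersion r := hclosed
  have hsc : ∀ {A B C : CommRingCat.{u}} (f : A ⟶ B) (g : B ⟶ C), Function.Surjective f →
      Function.Surjective g → Function.Surjective (f ≫ g) := fun f g hf hg => by
    intro c; obtain ⟨b, rfl⟩ := hg c; obtain ⟨a, rfl⟩ := hf b; exact ⟨a, rfl⟩
  have hv0 : v ≠ 0 := hz0 1
  have hpre := ToPn.preimage_D hr hU
  have haff : ∀ i, IsAffineOpen (ToPn.U L s i) := fun i => by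
    rw [← hpre i]
    have hD : IsAffineOpen (X := CohB1.ProjSpace 2 k) (LefPen.chart 2 k i) :=
      Proj.isAffineOpen_basicOpen (CohB1.polyGrading 2 k) _ (ToPn.X_mem i) one_pos
    haveI : IsAffineHom r := inferInstance
    exact hD.preimage r
  have hgen := fun i => closure_coords_eq_top k X hU hr i
  refine ⟨{
    W := W
    nonsingular := allNonsingular_of_genus_one k X hdim h0 hg W heq hut htop
    u := u, v := v, transcendental := hut, top := htop, equation := heq, v_ne := hv0
    U := ToPn.U L s, affine := haff, cover := hU, mem := hη, c := ToPn.c L s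
    germ_c := fun i l => hc i l (hη i)
    inf := fun i j => ToPn.U_inf L s i j
    gen := hgen
    o := o, o_over := ho, origin := ?_, origin_x := ?_, origin_z := ?_ }, rfl⟩
  all_goals intro w; rw [Subsingleton.elim w w₀, ← hx₁o]
  · obtain ⟨i, hi⟩ := Opens.mem_iSup.mp (hU.ge (Set.mem_univ x₁.1))
    have key : ∀ l, P.1 ((![u, v, 1] : Fin 3 → X.functionField) l / (![u, v, 1] : Fin 3 → X.functionField) i) ≤ 1 :=
      fun l => (placeAt_le_one_iff h x₁ _).mpr ⟨X.presheaf.germ _ x₁.1 hi (ToPn.c L s i l), by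
        rw [← hc i l (hη i)]
        exact TopCat.Presheaf.germ_stalkSpecializes_apply X.presheaf hi _ _⟩
    fin_cases i
    · have := key 1
      rw [map_div₀] at this
      simp [hu, hv, ← exp_sub] at this
      exact absurd this (by rw [← exp_zero, exp_le_exp]; norm_num)
    · exact hi
    · have := key 1
      simp [hv, ← exp_zero] at this
  all_goals
    intro hb
    have key : ∀ (l : Fin 3) (hm : x₁.1 ∈ ToPn.U L s 1),
        P.1 ((![u, v, 1] : Fin 3 → X.functionField) l / (![u, v, 1] : Fin 3 → X.functionField) 1) < 1 →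
          ¬ IsUnit (X.presheaf.germ _ x₁.1 hm (ToPn.c L s 1 l)) := fun l hm hl =>
      (placeAt_lt_one_iff (k := k) h x₁ (X.presheaf.germ _ x₁.1 hm (ToPn.c L s 1 l))).mp (by
        rw [show algebraMap (X.presheaf.stalk x₁.1) X.functionField
            (X.presheaf.germ _ x₁.1 hm (ToPn.c L s 1 l)) = _ from
          (TopCat.Presheaf.germ_stalkSpecializes_apply X.presheaf hm _ _).trans (hc 1 l (hη 1))]
        exact hl)
    have hm : x₁.1 ∈ ToPn.U L s 1 := (X.basicOpen_le _) hb
    refine key _ hm ?_ ((X.mem_basicOpen _ _ hm).mp hb)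
    rw [map_div₀]
    simp [hu, hv, ← exp_sub]
    rw [← exp_neg, ← exp_zero, exp_lt_exp]; norm_num

end Groth.EllGroup
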