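import Groth.Agent.EllGroup.Model
import Mathlib.AlgebraicGeometry.EllipticCurve.Projective.Point

/-!
Points of a Weierstrass model with values in fields, as points of the Weierstrass curve.
-/

set_option linter.style.haveILetI false
set_option linter.unusedSectionVars false
set_option backward.isDefEq.respectTransparency.types false

universe u

open CategoryTheory AlgebraicGeometry Opposite TopologicalSpace
open scoped Groth.CurveBridge WeierstrassCurve.Projective

namespace Groth.EllGroup

variable {k : Type u} [Field k] {E : Scheme.{u}} [E.Over (Spec (CommRingCat.of k))] [IsIntegral E]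

namespace Model

variable (M : Model k E)

/-- The coordinates `(u : v : 1)` of the generic point. -/
noncomputable def crdGen : Fin 3 → E.functionField := ![M.u, M.v, 1]

theorem crdGen_ne_zero (l : Fin 3) : M.crdGen l ≠ 0 := by
  have hu : M.u ≠ 0 := fun h => M.transcendental (h ▸ isAlgebraic_zero)
  fin_cases l
  exacts [hu, M.v_ne, one_ne_zero]

/-- The constants on a chart. -/
noncomputable def const (i : Fin 3) : k →+* Γ(E, M.U i) :=
  (E.presheaf.map (homOfLE le_top).op).hom.comp (Coh.toGlobal (E ↘ Spec (CommRingCat.of k)))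

theorem germ_injective (i : Fin 3) :
    Function.Injective (E.presheaf.germ (M.U i) (genericPoint E) (M.mem i)) :=
  germ_injective_of_isIntegral E (genericPoint E) (M.mem i)

theorem germ_const (i : Fin 3) (a : k) :
    E.presheaf.germ (M.U i) (genericPoint E) (M.mem i) (M.const i a) = algebraMap k E.functionField a :=
  TopCat.Presheaf.germ_res_apply E.presheaf _ _ _ _

theorem c_self (i : Fin 3) : M.c i i = 1 := by
  refine M.germ_injective i ?_
  rw [M.germ_c, map_one]
  exact div_self (M.crdGen_ne_zero i)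

theorem chart_equation (i : Fin 3) :
    (M.W.map (M.const i)).toProjective.Equation (M.c i) := by
  refine ((M.W.map (M.const i)).toProjective.map_equation (f := (E.presheaf.germ (M.U i) (genericPoint E) (M.mem i)).hom)
    (M.germ_injective i) (M.c i)).mp ?_
  change ((M.W.map (M.const i)).map (E.presheaf.germ (M.U i) (genericPoint E) (M.mem i)).hom).toProjective.Equation _
  rw [WeierstrassCurve.map_map,
    show (E.presheaf.germ (M.U i) (genericPoint E) (M.mem i)).hom.comp (M.const i) = algebraMap k E.functionField from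
      RingHom.ext (M.germ_const i)]
  have h : (E.presheaf.germ (M.U i) (genericPoint E) (M.mem i)).hom ∘ M.c i =
      (M.crdGen i)⁻¹ • M.crdGen := funext fun l => by
    refine (M.germ_c i l).trans ?_
    rw [Pi.smul_apply, smul_eq_mul, mul_comm, ← div_eq_mul_inv]
    rfl
  rw [h]
  refine (WeierstrassCurve.Projective.equation_smul _ (IsUnit.mk0 _ (inv_ne_zero (M.crdGen_ne_zero i)))).mpr ?_
  exact (WeierstrassCurve.Projective.equation_some _ _).mpr M.equation

theorem chart_subset_range (i : Fin 3) {x : E} (hx : x ∈ M.U i) : x ∈ Set.range (M.affine i).fromSpec := by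
  rw [(M.affine i).range_fromSpec]; exact hx

theorem fromSpec_over (i : Fin 3) :
    (M.affine i).fromSpec ≫ (E ↘ Spec (CommRingCat.of k)) = Spec.map (CommRingCat.ofHom (M.const i)) := by
  have h2 := IsAffineOpen.SpecMap_appLE_fromSpec (E ↘ Spec (CommRingCat.of k))
    (isAffineOpen_top _) (M.affine i) (i := le_top)
  rw [IsAffineOpen.fromSpec_top] at h2
  rw [← h2, Scheme.isoSpec_Spec_inv, ← Spec.map_comp]
  rfl

section Point

variable {A : Type u} [CommRing A] [IsLocalRing A] (a : Spec (CommRingCat.of A) ⟶ E)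

/-- The evaluation of a chart at a point. -/
noncomputable def ev (i : Fin 3) (h : a (IsLocalRing.closedPoint A) ∈ M.U i) :
    Γ(E, M.U i) ⟶ CommRingCat.of A :=
  E.presheaf.germ (M.U i) _ h ≫ Scheme.stalkClosedPointTo a

theorem map_ev (i : Fin 3) (h : a (IsLocalRing.closedPoint A) ∈ M.U i) :
    Spec.map (M.ev a i h) ≫ (M.affine i).fromSpec = a := by
  rw [ev, Spec.map_comp, Category.assoc]
  refine (congrArg (Spec.map (Scheme.stalkClosedPointTo a) ≫ ·) ?_).trans
    (Scheme.Spec_stalkClosedPointTo_fromSpecStalk a)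
  exact (M.affine i).fromSpecStalk_eq_fromSpecStalk h

theorem mem_chart {i : Fin 3} {g : Γ(E, M.U i) ⟶ CommRingCat.of A}
    (hg : Spec.map g ≫ (M.affine i).fromSpec = a) : a (IsLocalRing.closedPoint A) ∈ M.U i := by
  rw [← hg, Scheme.Hom.comp_apply]
  exact (M.affine i).range_fromSpec.le (Set.mem_range_self _)

theorem ev_eq {i : Fin 3} {g : Γ(E, M.U i) ⟶ CommRingCat.of A}
    (hg : Spec.map g ≫ (M.affine i).fromSpec = a) : M.ev a i (M.mem_chart a hg) = g := by
  refine Spec.map_injective ((cancel_mono (M.affine i).fromSpec).mp ?_)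
  rw [M.map_ev, hg]

theorem exists_chart : ∃ i, a (IsLocalRing.closedPoint A) ∈ M.U i :=
  Opens.mem_iSup.mp (M.cover.ge (Set.mem_univ _))

variable [Algebra k A]

theorem ev_const (ha : a ≫ (E ↘ Spec (CommRingCat.of k)) = Spec.map (CommRingCat.ofHom (algebraMap k A)))
    (i : Fin 3) (h : a (IsLocalRing.closedPoint A) ∈ M.U i) :
    (M.ev a i h).hom.comp (M.const i) = algebraMap k A := by
  have h1 : Spec.map (CommRingCat.ofHom (M.const i) ≫ M.ev a i h) = Spec.map (CommRingCat.ofHom (algebraMap k A)) := by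
    rw [Spec.map_comp, ← M.fromSpec_over, ← Category.assoc, M.map_ev, ha]
  exact congrArg CommRingCat.Hom.hom (Spec.map_injective h1)

/-- Ring maps on a chart agree once they agree on constants and coordinates. -/
theorem hom_ext {i : Fin 3} {B : CommRingCat.{u}} {f g : Γ(E, M.U i) ⟶ B}
    (h1 : f.hom.comp (M.const i) = g.hom.comp (M.const i)) (h2 : ∀ l, f (M.c i l) = g (M.c i l)) : f = g := by
  refine CommRingCat.hom_ext (RingHom.eq_of_eqOn_set_top ?_)
  rw [← M.gen i]
  refine RingHom.eqOn_set_closure ?_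
  rintro _ (⟨b, rfl⟩ | ⟨l, rfl⟩)
  exacts [RingHom.congr_fun h1 b, h2 l]

end Point

section FieldPoint

variable {L : Type u} [Field L] [Algebra k L] (a : Spec (CommRingCat.of L) ⟶ E)
  (ha : a ≫ (E ↘ Spec (CommRingCat.of k)) = Spec.map (CommRingCat.ofHom (algebraMap k L)))

/-- The coordinates of a point in the chart `i`. -/
noncomputable def crd (i : Fin 3) (h : a (IsLocalRing.closedPoint L) ∈ M.U i) : Fin 3 → L :=
  (M.ev a i h).hom ∘ M.c i

theorem crd_self (i : Fin 3) (h : a (IsLocalRing.closedPoint L) ∈ M.U i) : M.crd a i h i = 1 := by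
  simp [crd, M.c_self]

theorem crd_ne_zero_iff (i j : Fin 3) (h : a (IsLocalRing.closedPoint L) ∈ M.U i) :
    M.crd a i h j ≠ 0 ↔ a (IsLocalRing.closedPoint L) ∈ M.U j := by
  have e : IsUnit (M.crd a i h j) ↔ IsUnit (E.presheaf.germ (M.U i) _ h (M.c i j)) := by
    haveI : IsLocalHom (Scheme.stalkClosedPointTo a).hom := inferInstance
    exact isUnit_map_iff (Scheme.stalkClosedPointTo a).hom _
  rw [← isUnit_iff_ne_zero, e, ← E.mem_basicOpen _ _ h, ← M.inf i j]
  exact ⟨fun hh => hh.1, fun hh => ⟨hh, h⟩⟩

theorem crd_cocycle (i j : Fin 3) (hi : a (IsLocalRing.closedPoint L) ∈ M.U i)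
    (hj : a (IsLocalRing.closedPoint L) ∈ M.U j) (l : Fin 3) :
    M.crd a i hi l = M.crd a i hi j * M.crd a j hj l := by
  set x := a (IsLocalRing.closedPoint L)
  have key : E.presheaf.germ (M.U i) x hi (M.c i l) =
      E.presheaf.germ (M.U i) x hi (M.c i j) * E.presheaf.germ (M.U j) x hj (M.c j l) := by
    refine IsFractionRing.injective (E.presheaf.stalk x) E.functionField ?_
    rw [map_mul]
    have e : ∀ p q (hp : x ∈ M.U p), algebraMap (E.presheaf.stalk x) E.functionField
        (E.presheaf.germ (M.U p) x hp (M.c p q)) = M.crdGen q / M.crdGen p := fun p q hp =>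
      (TopCat.Presheaf.germ_stalkSpecializes_apply E.presheaf hp _ _).trans (M.germ_c p q)
    rw [e, e, e]
    field_simp [M.crdGen_ne_zero]
  exact (congrArg (Scheme.stalkClosedPointTo a).hom key).trans (map_mul _ _ _)

theorem crd_equiv (i j : Fin 3) (hi : a (IsLocalRing.closedPoint L) ∈ M.U i)
    (hj : a (IsLocalRing.closedPoint L) ∈ M.U j) : M.crd a i hi ≈ M.crd a j hj := by
  refine ⟨Units.mk0 (M.crd a i hi j) ((M.crd_ne_zero_iff a i j hi).mpr hj), funext fun l => ?_⟩
  exact (M.crd_cocycle a i j hi hj l).symm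

include ha in
theorem crd_nonsingular (i : Fin 3) (h : a (IsLocalRing.closedPoint L) ∈ M.U i) :
    (M.W⁄L).toProjective.Nonsingular (M.crd a i h) := by
  have he : (M.W⁄L).toProjective.Equation (M.crd a i h) := by
    have := WeierstrassCurve.Projective.Equation.map (M.ev a i h).hom (M.chart_equation i)
    change (M.W.map (algebraMap k L)).toProjective.Equation _
    rw [← M.ev_const a ha i h, ← WeierstrassCurve.map_map]
    exact this
  by_cases hz : M.crd a i h 2 = 0
  · rw [WeierstrassCurve.Projective.nonsingular_of_Z_eq_zero hz]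
    refine ⟨he, Or.inr ?_⟩
    have hx := WeierstrassCurve.Projective.X_eq_zero_of_Z_eq_zero he hz
    have hy : M.crd a i h 1 ≠ 0 := fun hy => by
      have h1 := M.crd_self a i h
      fin_cases i <;> simp_all
    simp [hx, hy]
  · rw [WeierstrassCurve.Projective.nonsingular_of_Z_ne_zero hz]
    exact M.nonsingular L _ _ ((WeierstrassCurve.Projective.equation_of_Z_ne_zero hz).mp he)

/-- The point of the Weierstrass curve of a point of the model. -/
noncomputable def pt : (M.W⁄L).toAffine.Point :=
  WeierstrassCurve.Projective.Point.toAffine (M.W⁄L).toProjective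
    (M.crd a (M.exists_chart a).choose (M.exists_chart a).choose_spec)

theorem pt_eq (i : Fin 3) (h : a (IsLocalRing.closedPoint L) ∈ M.U i) :
    M.pt a = WeierstrassCurve.Projective.Point.toAffine (M.W⁄L).toProjective (M.crd a i h) :=
  WeierstrassCurve.Projective.Point.toAffine_of_equiv (M.crd_equiv a _ i _ h)

theorem equiv_of_toAffine_eq {W : WeierstrassCurve.Projective L} {P Q : Fin 3 → L} (hP : W.Nonsingular P)
    (hQ : W.Nonsingular Q) (h : WeierstrassCurve.Projective.Point.toAffine W P =
      WeierstrassCurve.Projective.Point.toAffine W Q) : P ≈ Q := by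
  classical
  let P' : W.Point := ⟨(WeierstrassCurve.Projective.nonsingularLift_iff P).mpr hP⟩
  let Q' : W.Point := ⟨(WeierstrassCurve.Projective.nonsingularLift_iff Q).mpr hQ⟩
  have : P' = Q' := (WeierstrassCurve.Projective.Point.toAffineAddEquiv W).injective h
  exact Quotient.exact (congrArg WeierstrassCurve.Projective.Point.point this)

include ha in
theorem pt_injective (b : Spec (CommRingCat.of L) ⟶ E)
    (hb : b ≫ (E ↘ Spec (CommRingCat.of k)) = Spec.map (CommRingCat.ofHom (algebraMap k L)))
    (h : M.pt a = M.pt b) : a = b := by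
  obtain ⟨i, hi⟩ := M.exists_chart a
  obtain ⟨j, hj⟩ := M.exists_chart b
  rw [M.pt_eq a i hi, M.pt_eq b j hj] at h
  obtain ⟨c, hc⟩ := equiv_of_toAffine_eq (M.crd_nonsingular a ha i hi) (M.crd_nonsingular b hb j hj) h
  have hci : M.crd b j hj i ≠ 0 := fun h0 => by
    have := congrFun hc i
    simp [M.crd_self, Units.smul_def, h0] at this
  have hbi := (M.crd_ne_zero_iff b j i hj).mp hci
  rw [← M.map_ev a i hi, ← M.map_ev b i hbi]
  congr 2
  refine M.hom_ext ((M.ev_const a ha i hi).trans (M.ev_const b hb i hbi).symm) fun l => ?_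
  have h1 := congrFun hc l
  have h2 := congrFun hc i
  simp only [Pi.smul_apply, Units.smul_def, smul_eq_mul] at h1 h2
  rw [M.crd_cocycle b j i hj hbi l] at h1
  rw [M.crd_self] at h2
  show M.crd a i hi l = M.crd b i hbi l
  rw [← h1, ← mul_assoc, h2, one_mul]

theorem crd_comp {L' : Type u} [Field L'] (σ : L →+* L') (i : Fin 3)
    (h : a (IsLocalRing.closedPoint L) ∈ M.U i) :
    ∃ h' : (Spec.map (CommRingCat.ofHom σ) ≫ a) (IsLocalRing.closedPoint L') ∈ M.U i,
      M.crd (Spec.map (CommRingCat.ofHom σ) ≫ a) i h' = σ ∘ M.crd a i h := by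
  have hg : Spec.map (M.ev a i h ≫ CommRingCat.ofHom σ) ≫ (M.affine i).fromSpec =
      Spec.map (CommRingCat.ofHom σ) ≫ a := by
    rw [Spec.map_comp, Category.assoc, M.map_ev]
  refine ⟨M.mem_chart _ hg, ?_⟩
  rw [crd, M.ev_eq _ hg]
  rfl

include ha in
theorem pt_map [DecidableEq L] {L' : Type u} [Field L'] [DecidableEq L'] [Algebra k L'] (σ : L →ₐ[k] L') :
    M.pt (Spec.map (CommRingCat.ofHom σ.toRingHom) ≫ a) = WeierstrassCurve.Affine.Point.map σ (M.pt a) := by
  obtain ⟨i, hi⟩ := M.exists_chart a
  obtain ⟨hi', hc⟩ := M.crd_comp a σ.toRingHom i hi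
  have hns := M.crd_nonsingular a ha i hi
  rw [M.pt_eq _ i hi', hc, M.pt_eq a i hi]
  by_cases hz : M.crd a i hi 2 = 0
  · rw [WeierstrassCurve.Projective.Point.toAffine_of_Z_eq_zero hz,
      WeierstrassCurve.Affine.Point.map_zero,
      WeierstrassCurve.Projective.Point.toAffine_of_Z_eq_zero (by simp [hz])]
  · have hns' := (WeierstrassCurve.Projective.baseChange_nonsingular σ.toRingHom.injective
      (W' := M.W.toProjective) (f := σ) (M.crd a i hi)).mpr hns
    rw [WeierstrassCurve.Projective.Point.toAffine_of_Z_ne_zero hns hz,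
      WeierstrassCurve.Affine.Point.map_some]
    refine (WeierstrassCurve.Projective.Point.toAffine_of_Z_ne_zero hns' (by simpa using hz)).trans ?_
    simp [map_div₀]

end FieldPoint

end Model

end Groth.EllGroup
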