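import Groth.Agent.EllGroup.Extend
import Groth.Agent.Curves1.CurveMor.Smooth

/-!
The sum of two morphisms into a Weierstrass model.
-/

set_option linter.style.haveILetI false
set_option linter.unusedSectionVars false
set_option backward.isDefEq.respectTransparency.types false

universe u

open CategoryTheory Limits AlgebraicGeometry Opposite TopologicalSpace
open scoped Groth.CurveBridge WeierstrassCurve.Projective
open WeierstrassCurve.Projective (Point)

namespace Groth.EllGroup

variable {k : Type u} [Field k]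

attribute [local instance] stalkAlg Curv2.resAlgebra

/-- Reduction at a point. -/
noncomputable def resid {T : Scheme.{u}} [T.Over (Spec (CommRingCat.of k))] (t : T) :
    T.presheaf.stalk t →ₐ[k] T.residueField t :=
  { (T.residue t).hom with commutes' := fun _ => rfl }

theorem isUnit_of_resid {T : Scheme.{u}} [T.Over (Spec (CommRingCat.of k))] {t : T} {a : T.presheaf.stalk t}
    (h : resid (k := k) t a ≠ 0) : IsUnit a :=
  (IsLocalRing.residue_ne_zero_iff_isUnit a).mp h

theorem stalkMap_const {T U : Scheme.{u}} [T.Over (Spec (CommRingCat.of k))] [U.Over (Spec (CommRingCat.of k))]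
    (π : U ⟶ T) (hπ : π ≫ (T ↘ Spec (CommRingCat.of k)) = U ↘ Spec (CommRingCat.of k)) (x : U) (c : k) :
    π.stalkMap x (algebraMap k (T.presheaf.stalk (π x)) c) = algebraMap k (U.presheaf.stalk x) c := by
  have h : CommRingCat.ofHom (Curv2.stalkMap k T (π x)) ≫ π.stalkMap x = CommRingCat.ofHom (Curv2.stalkMap k U x) := by
    refine Spec.map_injective ?_
    rw [Spec.map_comp, ← Groth.CurveBridge.fromSpecStalk_over, ← Groth.CurveBridge.fromSpecStalk_over, ← hπ,
      ← Category.assoc, ← Category.assoc, Scheme.SpecMap_stalkMap_fromSpecStalk]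
  exact ConcreteCategory.congr_hom h c

/-- The map of local rings as algebras over the base field. -/
noncomputable def stalkHom {T U : Scheme.{u}} [T.Over (Spec (CommRingCat.of k))] [U.Over (Spec (CommRingCat.of k))]
    (π : U ⟶ T) (hπ : π ≫ (T ↘ Spec (CommRingCat.of k)) = U ↘ Spec (CommRingCat.of k)) (x : U) :
    T.presheaf.stalk (π x) →ₐ[k] U.presheaf.stalk x :=
  { (π.stalkMap x).hom with commutes' := stalkMap_const π hπ x }

theorem atPt_comp {T U : Scheme.{u}} [T.Over (Spec (CommRingCat.of k))] [U.Over (Spec (CommRingCat.of k))]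
    (π : U ⟶ T) (hπ : π ≫ (T ↘ Spec (CommRingCat.of k)) = U ↘ Spec (CommRingCat.of k)) (x : U)
    {L : Type u} [Field L] [Algebra k L] (r : U.presheaf.stalk x →ₐ[k] L) :
    atPt x r ≫ π = atPt (π x) (r.comp (stalkHom π hπ x)) := by
  rw [atPt, atPt, Category.assoc, ← Scheme.SpecMap_stalkMap_fromSpecStalk, ← Category.assoc, ← Spec.map_comp]
  rfl

variable {T : Scheme.{u}} [T.Over (Spec (CommRingCat.of k))] [IsIntegral T]
variable {E : Scheme.{u}} [E.Over (Spec (CommRingCat.of k))] [IsIntegral E] (M : Model k E)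

namespace Model

/-- A triple for the sum at a point where the two values differ. -/
theorem sum_triple {f g : T ⟶ E} (hf : f ≫ (E ↘ Spec (CommRingCat.of k)) = T ↘ Spec (CommRingCat.of k))
    (hg : g ≫ (E ↘ Spec (CommRingCat.of k)) = T ↘ Spec (CommRingCat.of k)) (t : T)
    {L : Type u} [Field L] [DecidableEq L] [DecidableEq T.functionField] [Algebra k L] (r : T.presheaf.stalk t →ₐ[k] L)
    (hne : M.pt (atPt t r ≫ f) ≠ M.pt (atPt t r ≫ g)) :
    ∃ w : Fin 3 → T.presheaf.stalk t, (M.W⁄T.functionField).toProjective.Nonsingular (toGen (k := k) t ∘ w) ∧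
      Point.toAffine (M.W⁄T.functionField).toProjective (toGen (k := k) t ∘ w) = M.gp f + M.gp g ∧
      (M.W⁄L).toProjective.Nonsingular (r ∘ w) ∧
      Point.toAffine (M.W⁄L).toProjective (r ∘ w) = M.pt (atPt t r ≫ f) + M.pt (atPt t r ≫ g) := by
  obtain ⟨i, hi⟩ := Opens.mem_iSup.mp (M.cover.ge (Set.mem_univ (f t)))
  obtain ⟨j, hj⟩ := Opens.mem_iSup.mp (M.cover.ge (Set.mem_univ (g t)))
  set P := M.tri f t i hi
  set Q := M.tri g t j hj
  obtain ⟨hP, eP⟩ := M.gp_eq hf t i hi
  obtain ⟨hQ, eQ⟩ := M.gp_eq hg t j hj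
  obtain ⟨hP', eP'⟩ := M.pt_atPt hf t r i hi
  obtain ⟨hQ', eQ'⟩ := M.pt_atPt hg t r j hj
  rw [eP', eQ'] at hne
  have hgen : Point.toAffine (M.W⁄T.functionField).toProjective (toGen (k := k) t ∘ P) ≠
      Point.toAffine (M.W⁄T.functionField).toProjective (toGen (k := k) t ∘ Q) := fun he =>
    not_equiv_of_map (toGen (k := k) t).toRingHom r.toRingHom (toGen_injective t)
      (exists_ne_zero_of_nonsingular hP') (exists_ne_zero_of_nonsingular hQ')
      (fun e => hne (Point.toAffine_of_equiv e)) (equiv_of_toAffine_eq hP hQ he)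
  obtain ⟨n1, e1⟩ := addXYZ_toAffine hP hQ hgen
  obtain ⟨n2, e2⟩ := addXYZ_toAffine hP' hQ' hne
  rw [addXYZ_comp] at n1 e1 n2 e2
  refine ⟨(M.W⁄(T.presheaf.stalk t)).toProjective.addXYZ P Q, n1, ?_, n2, ?_⟩
  · rw [e1, eP, eQ]
  · rw [e2, eP', eQ']

/-- The value of the sum at a point. -/
theorem pt_sum [DecidableEq T.functionField] {f g m : T ⟶ E}
    (hf : f ≫ (E ↘ Spec (CommRingCat.of k)) = T ↘ Spec (CommRingCat.of k))
    (hg : g ≫ (E ↘ Spec (CommRingCat.of k)) = T ↘ Spec (CommRingCat.of k))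
    (hm : m ≫ (E ↘ Spec (CommRingCat.of k)) = T ↘ Spec (CommRingCat.of k))
    (hs : M.gp m = M.gp f + M.gp g) (t : T)
    {L : Type u} [Field L] [DecidableEq L] [Algebra k L] (r : T.presheaf.stalk t →ₐ[k] L)
    (hne : M.pt (atPt t r ≫ f) ≠ M.pt (atPt t r ≫ g)) :
    M.pt (atPt t r ≫ m) = M.pt (atPt t r ≫ f) + M.pt (atPt t r ≫ g) := by
  obtain ⟨w, n1, e1, n2, e2⟩ := M.sum_triple hf hg t r hne
  rw [M.pt_of_gp hm n1 (hs.trans e1.symm) r n2, e2]

/-- The coordinate of a point over the generic point of the model. -/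
theorem transcendental_of_eq_generic {U : Scheme.{u}} [U.Over (Spec (CommRingCat.of k))] [IsIntegral U]
    (e : U ⟶ E) (he : e ≫ (E ↘ Spec (CommRingCat.of k)) = U ↘ Spec (CommRingCat.of k)) (x : U)
    (hx : e x = genericPoint E) {L : Type u} [Field L] [Algebra k L] (r : U.presheaf.stalk x →ₐ[k] L) :
    ∃ (a b : L) (hns : (M.W⁄L).toAffine.Nonsingular a b), Transcendental k a ∧
      M.pt (atPt x r ≫ e) = .some a b hns := by
  have h2 : e x ∈ M.U 2 := hx ▸ M.mem 2
  obtain ⟨hn, hp⟩ := M.pt_atPt he x r 2 h2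
  set P := r ∘ M.tri e x 2 h2
  have hz : P 2 = 1 := by simp [P, M.tri_self]
  have hP : P = ![P 0, P 1, 1] := by funext l; fin_cases l <;> simp [hz]
  rw [hP] at hn hp
  refine ⟨P 0, P 1, (WeierstrassCurve.Projective.nonsingular_some _ _).mp hn, ?_,
    hp.trans (Point.toAffine_some hn)⟩
  set a := E.presheaf.germ (M.U 2) (e x) h2 (M.c 2 0)
  have hau : algebraMap (E.presheaf.stalk (e x)) E.functionField a = M.u :=
    (TopCat.Presheaf.germ_stalkSpecializes_apply E.presheaf h2 _ _).trans ((M.germ_c 2 0).trans (by simp))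
  rintro ⟨q, hq0, hq⟩
  have hne : Polynomial.aeval a q ≠ 0 := fun h0 => by
    refine M.transcendental ⟨q, hq0, ?_⟩
    rw [← hau]
    show Polynomial.aeval (toGen (k := k) (e x) a) q = 0
    rw [Polynomial.aeval_algHom_apply, h0, map_zero]
  have hu : IsUnit (Polynomial.aeval a q) := by
    obtain ⟨b, hb⟩ := Groth.CurveBridge.range_toFF_generic (X := E) (e x) hx
      (algebraMap (E.presheaf.stalk (e x)) E.functionField (Polynomial.aeval a q))⁻¹
    refine IsUnit.of_mul_eq_one b (IsFractionRing.injective (E.presheaf.stalk (e x)) E.functionField ?_)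
    rw [map_mul, hb, map_one, mul_inv_cancel₀]
    exact (map_ne_zero_iff _ (IsFractionRing.injective (E.presheaf.stalk (e x)) E.functionField)).mpr hne
  have h3 : Polynomial.aeval (P 0) q = r (stalkHom e he x (Polynomial.aeval a q)) := by
    rw [← Polynomial.aeval_algHom_apply, ← Polynomial.aeval_algHom_apply]
    rfl
  rw [hq] at h3
  exact (hu.map (r.comp (stalkHom e he x))).ne_zero h3.symm

/-- Points at closed points have algebraic coordinates. -/
theorem isAlgebraic_of_closed [LocallyOfFiniteType (T ↘ Spec (CommRingCat.of k))] {f : T ⟶ E}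
    (hf : f ≫ (E ↘ Spec (CommRingCat.of k)) = T ↘ Spec (CommRingCat.of k)) {t : T} (ht : IsClosed ({t} : Set T))
    {a b : T.residueField t} {hns : (M.W⁄(T.residueField t)).toAffine.Nonsingular a b}
    (_h : M.pt (atPt t (resid (k := k) t) ≫ f) = .some a b hns) : IsAlgebraic k a := by
  haveI := Groth.Curves1.CurveMor.finite_residueField_of_isClosed (k := k) ht
  exact Algebra.IsAlgebraic.isAlgebraic a

variable [LocallyOfFiniteType (E ↘ Spec (CommRingCat.of k))] [IsSeparated (E ↘ Spec (CommRingCat.of k))]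
  [GeometricallyIntegral (E ↘ Spec (CommRingCat.of k))]
  [Flat (E ↘ Spec (CommRingCat.of k))] [UniversallyOpen (E ↘ Spec (CommRingCat.of k))]
  [LocallyOfFiniteType (T ↘ Spec (CommRingCat.of k))]

/-- The triples of the sum at every closed point. -/
theorem exists_sum [DecidableEq T.functionField] {f g : T ⟶ E}
    (hf : f ≫ (E ↘ Spec (CommRingCat.of k)) = T ↘ Spec (CommRingCat.of k))
    (hg : g ≫ (E ↘ Spec (CommRingCat.of k)) = T ↘ Spec (CommRingCat.of k))
    {x y : T.functionField} {hns : (M.W⁄T.functionField).toAffine.Nonsingular x y} (hx : Transcendental k x)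
    (hs : M.gp f + M.gp g = .some x y hns) :
    ∃ m : T ⟶ E, m ≫ (E ↘ Spec (CommRingCat.of k)) = T ↘ Spec (CommRingCat.of k) ∧ M.gp m = M.gp f + M.gp g := by
  classical
  haveI : JacobsonSpace T := LocallyOfFiniteType.jacobsonSpace (T ↘ Spec (CommRingCat.of k))
  haveI : IsLocallyNoetherian T := LocallyOfFiniteType.isLocallyNoetherian (T ↘ Spec (CommRingCat.of k))
  have hnsP : (M.W⁄T.functionField).toProjective.Nonsingular ![x, y, 1] :=
    (WeierstrassCurve.Projective.nonsingular_some _ _).mpr hns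
  have hxy : Point.toAffine (M.W⁄T.functionField).toProjective ![x, y, 1] = M.gp f + M.gp g := by
    rw [Point.toAffine_some hnsP, hs]
  rw [hs]
  refine M.exists_morphism hns hx fun t ht => ?_
  by_cases hne : M.pt (atPt t (resid (k := k) t) ≫ f) ≠ M.pt (atPt t (resid (k := k) t) ≫ g)
  · obtain ⟨w, n1, e1, n2, -⟩ := M.sum_triple hf hg t _ hne
    refine ⟨w, ?_, cross_of_equiv (equiv_of_toAffine_eq n1 hnsP (e1.trans hxy.symm))⟩
    obtain ⟨i, hi⟩ := exists_ne_zero_of_nonsingular n2
    exact ⟨i, isUnit_of_resid hi⟩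
  rw [not_not] at hne
  -- adjoin a generic point of the curve
  let U := pullback (E ↘ Spec (CommRingCat.of k)) (T ↘ Spec (CommRingCat.of k))
  let e : U ⟶ E := pullback.fst _ _
  let π : U ⟶ T := pullback.snd _ _
  letI : U.Over (Spec (CommRingCat.of k)) := ⟨π ≫ (T ↘ Spec (CommRingCat.of k))⟩
  have hπ : π ≫ (T ↘ Spec (CommRingCat.of k)) = U ↘ Spec (CommRingCat.of k) := rfl
  have he : e ≫ (E ↘ Spec (CommRingCat.of k)) = U ↘ Spec (CommRingCat.of k) := pullback.condition
  haveI : IsIntegral U := inferInstanceAs (IsIntegral (pullback _ _))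
  obtain ⟨z, hze, hzπ⟩ := Scheme.Pullback.exists_preimage_pullback (f := E ↘ Spec (CommRingCat.of k))
    (g := T ↘ Spec (CommRingCat.of k)) (genericPoint E) t (Subsingleton.elim _ _)
  change e z = _ at hze
  change π z = t at hzπ
  subst hzπ
  set R := resid (k := k) z
  obtain ⟨a₀, b₀, hA, hta, hpA⟩ := M.transcendental_of_eq_generic e he z hze R
  have hfπ : (π ≫ f) ≫ (E ↘ Spec (CommRingCat.of k)) = U ↘ Spec (CommRingCat.of k) := by
    rw [Category.assoc, hf, hπ]
  have hgπ : (π ≫ g) ≫ (E ↘ Spec (CommRingCat.of k)) = U ↘ Spec (CommRingCat.of k) := by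
    rw [Category.assoc, hg, hπ]
  -- values over the residue field of `z`
  obtain ⟨τ, hτ⟩ : ∃ τ : T.residueField (π z) →ₐ[k] U.residueField z,
      τ.comp (resid (k := k) (π z)) = R.comp (stalkHom π hπ z) := by
    have hc : (π.residueFieldMap z).hom.comp (resid (k := k) (π z)).toRingHom =
        (R.comp (stalkHom π hπ z)).toRingHom :=
      congrArg CommRingCat.Hom.hom (Scheme.residue_residueFieldMap π z)
    refine ⟨{ (π.residueFieldMap z).hom with commutes' := fun c => ?_ },
      AlgHom.ext fun v => RingHom.congr_fun hc v⟩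
    have h1 := RingHom.congr_fun hc (algebraMap k _ c)
    simp only [RingHom.comp_apply, AlgHom.toRingHom_eq_coe, RingHom.coe_coe, AlgHom.commutes] at h1
    exact h1
  have hpt : ∀ (φ : T ⟶ E) (hφ : φ ≫ (E ↘ Spec (CommRingCat.of k)) = T ↘ Spec (CommRingCat.of k)),
      M.pt (atPt z R ≫ π ≫ φ) =
        WeierstrassCurve.Affine.Point.map τ (M.pt (atPt (π z) (resid (k := k) (π z)) ≫ φ)) := fun φ hφ => by
    rw [← Category.assoc, atPt_comp π hπ, ← hτ, ← M.pt_map _ (over_comp hφ (atPt_over _ _)) τ]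
    congr 1
    rw [atPt, atPt, ← Category.assoc, ← Category.assoc, ← Spec.map_comp]
    rfl
  set A₀ := M.pt (atPt z R ≫ e) with hA₀
  set P₀ := M.pt (atPt z R ≫ π ≫ f) with hP₀
  have hPQ : M.pt (atPt z R ≫ π ≫ g) = P₀ := by rw [hP₀, hpt f hf, hpt g hg, hne]
  have halg : ∀ (a b : U.residueField z) (hab : (M.W⁄(U.residueField z)).toAffine.Nonsingular a b),
      P₀ = .some a b hab → IsAlgebraic k a := fun a b hab hP => by
    rw [hP₀, hpt f hf] at hP
    cases hq : M.pt (atPt (π z) (resid (k := k) (π z)) ≫ f) with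
    | zero => rw [hq] at hP; exact absurd hP (by simp [← WeierstrassCurve.Affine.Point.zero_def])
    | some p q hpq =>
      rw [hq, WeierstrassCurve.Affine.Point.map_some] at hP
      injection hP with hpa _
      exact hpa ▸ (M.isAlgebraic_of_closed hf ht hq).algHom τ
  have hnA : P₀ ≠ A₀ := fun hPA => hta (halg a₀ b₀ hA (hPA.trans hpA))
  have hnA' : P₀ ≠ -A₀ := fun hPA => by
    rw [hpA, WeierstrassCurve.Affine.Point.neg_some] at hPA
    exact hta (halg _ _ _ hPA)
  have hA2 : A₀ ≠ -A₀ := fun hAA => by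
    rw [hpA, WeierstrassCurve.Affine.Point.neg_some] at hAA
    injection hAA with _ hb
    exact negY_ne_self M.W M.nonsingular hA.left hta hb.symm
  -- the coordinates upstairs
  obtain ⟨i, hi⟩ := Opens.mem_iSup.mp (M.cover.ge (Set.mem_univ ((π ≫ f) z)))
  obtain ⟨j, hj⟩ := Opens.mem_iSup.mp (M.cover.ge (Set.mem_univ ((π ≫ g) z)))
  obtain ⟨l, hl⟩ := Opens.mem_iSup.mp (M.cover.ge (Set.mem_univ (e z)))
  set P := M.tri (π ≫ f) z i hi
  set Q := M.tri (π ≫ g) z j hj
  set A := M.tri e z l hl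
  obtain ⟨nP, eP⟩ := M.gp_eq hfπ z i hi
  obtain ⟨nQ, eQ⟩ := M.gp_eq hgπ z j hj
  obtain ⟨nA, eA⟩ := M.gp_eq he z l hl
  obtain ⟨nP', eP'⟩ := M.pt_atPt hfπ z R i hi
  obtain ⟨nQ', eQ'⟩ := M.pt_atPt hgπ z R j hj
  obtain ⟨nA', eA'⟩ := M.pt_atPt he z R l hl
  let A' := (M.W⁄(U.presheaf.stalk z)).toProjective.neg A
  have hnegg : (M.W⁄U.functionField).toProjective.neg (toGen (k := k) z ∘ A) = toGen (k := k) z ∘ A' :=
    WeierstrassCurve.Projective.baseChange_neg (W' := M.W.toProjective) _ _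
  have hnegr : (M.W⁄(U.residueField z)).toProjective.neg (R ∘ A) = R ∘ A' :=
    WeierstrassCurve.Projective.baseChange_neg (W' := M.W.toProjective) _ _
  have mA := WeierstrassCurve.Projective.nonsingular_neg nA
  have mA' := WeierstrassCurve.Projective.nonsingular_neg nA'
  have fA := Point.toAffine_neg nA
  have fA' := Point.toAffine_neg nA'
  rw [hnegg] at mA fA
  rw [hnegr] at mA' fA'
  rw [← eA] at fA
  rw [← eA', ← hA₀] at fA'
  rw [← hP₀] at eP'
  rw [hPQ] at eQ'
  -- inequalities upstairs from those in the residue field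
  have up : ∀ {p q : Fin 3 → U.presheaf.stalk z},
      (M.W⁄U.functionField).toProjective.Nonsingular (toGen (k := k) z ∘ p) →
      (M.W⁄U.functionField).toProjective.Nonsingular (toGen (k := k) z ∘ q) →
      (M.W⁄(U.residueField z)).toProjective.Nonsingular (R ∘ p) →
      (M.W⁄(U.residueField z)).toProjective.Nonsingular (R ∘ q) →
      Point.toAffine (M.W⁄(U.residueField z)).toProjective (R ∘ p) ≠
        Point.toAffine (M.W⁄(U.residueField z)).toProjective (R ∘ q) →
      Point.toAffine (M.W⁄U.functionField).toProjective (toGen (k := k) z ∘ p) ≠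
        Point.toAffine (M.W⁄U.functionField).toProjective (toGen (k := k) z ∘ q) :=
    fun {p q} m1 m2 m1' m2' hpq hh =>
      not_equiv_of_map (toGen (k := k) z).toRingHom R.toRingHom (toGen_injective z)
        (exists_ne_zero_of_nonsingular m1') (exists_ne_zero_of_nonsingular m2')
        (fun e => hpq (Point.toAffine_of_equiv e)) (equiv_of_toAffine_eq m1 m2 hh)
  have d1' : Point.toAffine (M.W⁄(U.residueField z)).toProjective (R ∘ P) ≠
      Point.toAffine (M.W⁄(U.residueField z)).toProjective (R ∘ A) := by rw [← eP', ← eA', ← hA₀]; exact hnA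
  have d2' : Point.toAffine (M.W⁄(U.residueField z)).toProjective (R ∘ Q) ≠
      Point.toAffine (M.W⁄(U.residueField z)).toProjective (R ∘ A') := by rw [← eQ', fA']; exact hnA'
  obtain ⟨nX, eX⟩ := addXYZ_toAffine nP nA (up nP nA nP' nA' d1')
  obtain ⟨nX', eX'⟩ := addXYZ_toAffine nP' nA' d1'
  obtain ⟨nY, eY⟩ := addXYZ_toAffine nQ mA (up nQ mA nQ' mA' d2')
  obtain ⟨nY', eY'⟩ := addXYZ_toAffine nQ' mA' d2'
  rw [addXYZ_comp] at nX eX nX' eX' nY eY nY' eY'
  set X := (M.W⁄(U.presheaf.stalk z)).toProjective.addXYZ P A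
  set Y := (M.W⁄(U.presheaf.stalk z)).toProjective.addXYZ Q A'
  have d3' : Point.toAffine (M.W⁄(U.residueField z)).toProjective (R ∘ X) ≠
      Point.toAffine (M.W⁄(U.residueField z)).toProjective (R ∘ Y) := by
    rw [eX', eY', ← eP', ← eQ', ← eA', ← hA₀, fA']
    exact fun h => hA2 (add_left_cancel h)
  obtain ⟨nZ, eZ⟩ := addXYZ_toAffine nX nY (up nX nY nX' nY' d3')
  obtain ⟨nZ', -⟩ := addXYZ_toAffine nX' nY' d3'
  rw [addXYZ_comp] at nZ eZ nZ'
  set Z := (M.W⁄(U.presheaf.stalk z)).toProjective.addXYZ X Y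
  rw [eX, eY, ← eP, ← eQ, ← eA, fA,
    show M.gp (π ≫ f) + M.gp e + (M.gp (π ≫ g) + -M.gp e) = M.gp (π ≫ f) + M.gp (π ≫ g) by abel] at eZ
  -- descend to the local ring below
  let ψ : T.presheaf.stalk (π z) →ₐ[k] U.presheaf.stalk z := stalkHom π hπ z
  letI : Algebra (T.presheaf.stalk (π z)) (U.presheaf.stalk z) := (π.stalkMap z).hom.toAlgebra
  haveI : Module.Flat (T.presheaf.stalk (π z)) (U.presheaf.stalk z) := Flat.stalkMap π z
  haveI : IsLocalHom (algebraMap (T.presheaf.stalk (π z)) (U.presheaf.stalk z)) :=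
    inferInstanceAs (IsLocalHom (π.stalkMap z).hom)
  haveI : Module.FaithfullyFlat (T.presheaf.stalk (π z)) (U.presheaf.stalk z) :=
    Module.FaithfullyFlat.of_flat_of_isLocalHom
  have hψinj : Function.Injective ψ := FaithfulSMul.algebraMap_injective (T.presheaf.stalk (π z)) (U.presheaf.stalk z)
  let r₂ : T.presheaf.stalk (π z) →ₐ[k] U.functionField := (toGen (k := k) z).comp ψ
  have hr₂ : Function.Injective r₂ := (toGen_injective z).comp hψinj
  let ρ₀ : T.functionField →+* U.functionField := IsFractionRing.lift (g := r₂.toRingHom) hr₂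
  have hρ₀ : ∀ v, ρ₀ (toGen (k := k) (π z) v) = r₂ v := fun v => IsFractionRing.lift_algebraMap _ v
  let ρ : T.functionField →ₐ[k] U.functionField :=
    { ρ₀ with
      commutes' := fun c =>
        (congrArg ρ₀ ((toGen (k := k) (π z)).commutes c).symm).trans ((hρ₀ _).trans (r₂.commutes c)) }
  have hρgen : genPt U ≫ π = Spec.map (CommRingCat.ofHom ρ.toRingHom) ≫ genPt T := by
    rw [← atPt_toGen (k := k) z, atPt_comp π hπ, ← atPt_toGen (k := k) (π z), atPt, atPt, ← Category.assoc,
      ← Spec.map_comp]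
    congr 2
    exact CommRingCat.hom_ext (RingHom.ext fun v => (hρ₀ v).symm)
  have hgp : ∀ (φ : T ⟶ E) (hφ : φ ≫ (E ↘ Spec (CommRingCat.of k)) = T ↘ Spec (CommRingCat.of k)),
      M.gp (π ≫ φ) = WeierstrassCurve.Affine.Point.map ρ (M.gp φ) := fun φ hφ => by
    rw [gp, gp, ← Category.assoc, hρgen, Category.assoc, ← M.pt_map _ (over_comp hφ genPt_over) ρ]
  rw [hgp f hf, hgp g hg, ← map_add, hs, WeierstrassCurve.Affine.Point.map_some] at eZ
  obtain ⟨i₀, hi₀⟩ := exists_ne_zero_of_nonsingular nZ'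
  have hiu : IsUnit (Z i₀) := isUnit_of_resid hi₀
  obtain ⟨⟨d, hd⟩, hden⟩ := IsLocalization.exist_integer_multiples_of_finite
    (nonZeroDivisors (T.presheaf.stalk (π z))) ![x, y, (1 : T.functionField)]
  choose v hv using hden
  have hd0 : toGen (k := k) (π z) d ≠ 0 :=
    (map_ne_zero_iff _ (toGen_injective (π z))).mpr (nonZeroDivisors.ne_zero hd)
  have hv' : toGen (k := k) (π z) ∘ v = toGen (k := k) (π z) d • ![x, y, (1 : T.functionField)] :=
    funext fun l => (hv l).trans (Algebra.smul_def _ _)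
  have hv0 : ∃ l, v l ≠ 0 := ⟨2, fun h0 => hd0 (by
    have := congrFun hv' 2
    simp [h0] at this
    exact this.symm)⟩
  have hc : Cross (algebraMap (T.presheaf.stalk (π z)) (U.presheaf.stalk z) ∘ v) Z := by
    refine cross_of_map (f := (toGen (k := k) z).toRingHom) (toGen_injective z) ?_
    have e1 : (toGen (k := k) z).toRingHom ∘ algebraMap (T.presheaf.stalk (π z)) (U.presheaf.stalk z) ∘ v =
        ρ ∘ (toGen (k := k) (π z) ∘ v) := funext fun l => (hρ₀ (v l)).symm
    rw [e1, hv']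
    have e2 : ρ ∘ (toGen (k := k) (π z) d • ![x, y, (1 : T.functionField)]) =
        ρ (toGen (k := k) (π z) d) • ![ρ x, ρ y, 1] := by
      funext l; fin_cases l <;> simp
    rw [e2]
    have hnU := (M.W.toAffine.baseChange_nonsingular (f := ρ) ρ.toRingHom.injective x y).mpr hns
    have hnP : (M.W⁄U.functionField).toProjective.Nonsingular ![ρ x, ρ y, 1] :=
      (WeierstrassCurve.Projective.nonsingular_some _ _).mpr hnU
    refine fun p q => ?_
    have := cross_of_equiv (equiv_of_toAffine_eq hnP nZ ((Point.toAffine_some hnP).trans eZ.symm)) p q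
    simp only [Pi.smul_apply, smul_eq_mul, Function.comp_apply] at this ⊢
    exact (mul_assoc _ _ _).trans ((congrArg (ρ (toGen (k := k) (π z) d) * ·) this).trans (mul_assoc _ _ _).symm)
  obtain ⟨b, hbi, hb⟩ := exists_primitive hv0 hiu hc
  refine ⟨b, ⟨i₀, hbi ▸ isUnit_one⟩, fun p q => ?_⟩
  have := hb.map (toGen (k := k) (π z)).toRingHom p q
  have h1 := congrFun hv' p
  have h2 := congrFun hv' q
  simp only [Function.comp_apply, Pi.smul_apply, smul_eq_mul, AlgHom.toRingHom_eq_coe, RingHom.coe_coe] at this h1 h2 ⊢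
  rw [h1, h2] at this
  refine mul_left_cancel₀ hd0 ?_
  linear_combination -this

end Model

end Groth.EllGroup
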